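/-
Groups of `p`-rank at most two: the action on `O_p` factors through `GL₂(p)` up to a `p`-group.
-/
import Mathlib
import Cfsg.Agent.QT.C1
import Cfsg.Agent.ODD.BG4b.PStruct
import Cfsg.Agent.PLOC.FF2
import Cfsg.Agent.PLOC.Critical
import Cfsg.Agent.PLOC.PFrattini
import Cfsg.Agent.SOLV.CoprimeSylow
import Cfsg.Agent.SOLV.PGroupCyclicSCN
import Cfsg.Agent.INV.Rank
import Cfsg.Agent.S0262
import Cfsg.Agent.S0268

set_option autoImplicit false

namespace CL.QT

open Cfsg Subgroup CL.Comp CL.MSS CL.Rank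
open scoped commutatorElement MatrixGroups

variable {G G' : Type*} [Group G] [Group G'] [Finite G] {p : ℕ} [hp : Fact p.Prime]

theorem exists_lift (f : G →* G') {H : Subgroup G} {B : Subgroup G'} (hB : IsPGroup p B)
    (hBH : B ≤ H.map f) : ∃ P ≤ H, IsPGroup p P ∧ P.map f = B := by
  obtain ⟨Y, hY, rfl⟩ := BG.A38.exists_map_eq_of_le_map hBH
  obtain ⟨P, hP⟩ := exists_sylIn p Y
  exact ⟨P, hP.le.trans hY, hP.pgroup, (hP.map f).eq_of_isPGroup hB⟩

theorem prankLE_of_surjective {k : ℕ} {f : G →* G'} (hf : Function.Surjective f)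
    (hk : (Nat.card f.ker).Coprime p) (h : PRankLE p k G) : PRankLE p k G' := by
  have := BG.A38.prankLE_map_of_coprime f (H := ⊤) (k := k) (by rwa [top_inf_eq])
    (prankLE_subgroup h _)
  rw [map_top_of_surjective f hf] at this
  exact BG.Sec4.pRankLE_top_iff.1 this

omit hp in
theorem mem_of_rank {k : ℕ} (h : PRankLE p k G) {E : Subgroup G} (hE : IsElementaryAbelian p E)
    (hc : p ^ k ≤ Nat.card E) {y : G} (hy : y ^ p = 1) (hyE : y ∈ centralizer (E : Set G)) :
    y ∈ E := by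
  rw [isElementaryAbelian_iff] at hE
  have hn : zpowers y ≤ normalizer (E : Set G) :=
    (zpowers_le.2 hyE).trans (centralizer_le_normalizer _)
  have key : ∀ a ∈ zpowers y ⊔ E, ∃ i : ℤ, ∃ e ∈ E, a = y ^ i * e := fun a ha => by
    obtain ⟨b, ⟨i, rfl⟩, e, he, rfl⟩ := (mem_sup_of_le_normalizer hn).1 ha
    exact ⟨i, e, he, rfl⟩
  have hc' : ∀ e ∈ E, Commute y e := fun e he => (hyE e he).symm
  have h1 : IsElementaryAbelian p (zpowers y ⊔ E) := by
    rw [isElementaryAbelian_iff]
    constructor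
    · intro a ha b hb
      obtain ⟨i, e, he, rfl⟩ := key a ha
      obtain ⟨j, d, hd, rfl⟩ := key b hb
      exact Commute.mul_left (Commute.mul_right ((Commute.refl y).zpow_zpow i j)
        ((hc' d hd).zpow_left i)) (Commute.mul_right ((hc' e he).symm.zpow_right j)
        (hE.1 e he d hd))
    · intro a ha
      obtain ⟨i, e, he, rfl⟩ := key a ha
      rw [((hc' e he).zpow_left i).mul_pow, hE.2 e he, mul_one, ← zpow_natCast, ← zpow_mul,
        mul_comm, zpow_mul, zpow_natCast, hy, one_zpow]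
  have h2 : E = zpowers y ⊔ E :=
    eq_of_le_of_card_ge le_sup_right ((h _ h1.1 h1.2).trans hc)
  rw [h2]
  exact mem_sup_left (mem_zpowers y)

theorem sq_le_card {A E : Subgroup G} (hE : IsPGroup p E) (h1 : A ≠ ⊥) (h2 : A < E) :
    p ^ 2 ≤ Nat.card E := by
  have h3 := BG.Sec4.le_card_of_ne_bot (hE.to_le h2.le) h1
  have h4 := BG.Sec4.card_mul_le_of_lt hE h2
  rw [pow_two]
  exact (Nat.mul_le_mul_left p h3).trans h4

theorem exists_p2 (hp2 : p ≠ 2) {S : Subgroup G} (hS : IsPGroup p S) (hc : ¬ IsCyclic S) :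
    ∃ E ≤ S, IsElementaryAbelian p E ∧ Nat.card E = p ^ 2 := by
  obtain ⟨E, hE, -⟩ := BG.ex_odd_normal_p2Elem hS (BG.odd_card_of_isPGroup hp2 hS) hc
  exact ⟨E, hE.1, hE.2.1, hE.2.2⟩

theorem exists_hom_GL_le {W : Subgroup G} [W.Normal] (hW : IsElementaryAbelian p W)
    (hc : Nat.card W ≤ p ^ 2) :
    ∃ φ : G →* GL (Fin 2) (ZMod p), ∀ g, φ g = 1 → g ∈ centralizer (W : Set G) := by
  obtain ⟨i, hi, hcard⟩ := (Nat.dvd_prime_pow hp.out).1
    (BG.Sec4.card_dvd_pow_of_le (isPGroup_of_isElementaryAbelian hW) hc)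
  interval_cases i
  · refine ⟨1, fun g _ => ?_⟩
    rw [pow_zero, card_eq_one] at hcard
    rw [hcard]
    intro w hw
    rw [show w = 1 from hw]
    simp
  · rw [pow_one] at hcard
    have hcyc : IsCyclic W := isCyclic_of_prime_card hcard
    have e : MulAut W ≃* (ZMod p)ˣ := hcard ▸ IsCyclic.mulAutMulEquiv W
    refine ⟨((Matrix.GeneralLinearGroup.scalar (Fin 2)).comp e.toMonoidHom).comp
      (MulAut.conjNormal (H := W)), fun g hg => ?_⟩
    have h1 : e (MulAut.conjNormal (H := W) g) = 1 := by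
      have := congrArg (fun M : GL (Fin 2) (ZMod p) => (M : Matrix (Fin 2) (Fin 2) (ZMod p)) 0 0) hg
      refine Units.ext ?_
      simpa [Matrix.GeneralLinearGroup.scalar] using this
    rw [e.map_eq_one_iff] at h1
    intro w hw
    have := congrArg (fun a : MulAut W => ((a ⟨w, hw⟩ : W) : G)) h1
    simp only [MulAut.conjNormal_apply, MulAut.one_apply] at this
    rw [mul_inv_eq_iff_eq_mul] at this
    exact this.symm
  · obtain ⟨φ, hφ⟩ := Th.exists_hom_GL_two (E := ⊤) hW hcard (by rw [normalizer_eq_top])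
    refine ⟨φ.comp Subgroup.topEquiv.symm.toMonoidHom, fun g hg => ?_⟩
    have : (Subgroup.topEquiv.symm g) ∈ φ.ker := hg
    rw [hφ] at this
    exact this

theorem exists_rep (hp2 : p ≠ 2) (hr : PRankLE p 2 G) :
    ∃ φ : G →* GL (Fin 2) (ZMod p),
      ∀ g, φ g = 1 → (orderOf g).Coprime p → g ∈ centralizer (pCore p G : Set G) := by
  obtain ⟨D, hDP, -, hn, hc, he, -, -, hf⟩ :=
    PG.exists_critical_odd_ambient hp2 (isPGroup_pCore p G)
  have hDn : D.Normal := by
    rw [← normalizer_eq_top_iff]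
    exact top_le_iff.1 (by rwa [normalizer_eq_top] at hn)
  have hD : IsPGroup p D := (isPGroup_pCore p G).to_le hDP
  set f := QuotientGroup.mk' ⁅D, D⁆ with hfdef
  have hWn : (D.map f).Normal := hDn.map f (QuotientGroup.mk'_surjective _)
  have hW : IsElementaryAbelian p (D.map f) := by
    rw [isElementaryAbelian_iff]
    constructor
    · rintro _ ⟨a, ha, rfl⟩ _ ⟨b, hb, rfl⟩
      rw [← commutatorElement_eq_one_iff_mul_comm, ← map_commutatorElement]
      exact (QuotientGroup.eq_one_iff _).2 (commutator_mem_commutator ha hb)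
    · rintro _ ⟨a, ha, rfl⟩
      rw [← map_pow, he a ha, map_one]
  have hcard : Nat.card (D.map f) ≤ p ^ 2 := by
    have h1 : Nat.card (D.map f) * Nat.card ↥⁅D, D⁆ = Nat.card D := by
      have h2 := card_mul_index (f.ker.subgroupOf D)
      have h3 : (f.ker.subgroupOf D).index = Nat.card (D.map f) := by
        rw [← relIndex, relIndex_ker]
      rw [h3, hfdef, QuotientGroup.ker_mk',
        Nat.card_congr (subgroupOfEquivOfLe (comm_self_le D)).toEquiv] at h2
      rw [← h2, mul_comm]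
    by_cases hb : ⁅D, D⁆ = ⊥
    · refine (Nat.le_of_dvd Nat.card_pos ⟨_, h1.symm⟩).trans (hr D ?_ he)
      exact isMulCommutative_of_le_centralizer (commutator_eq_bot_iff_le_centralizer.1 hb)
    · have h2 := BG.Sec4.le_card_of_ne_bot (hD.to_le (comm_self_le D)) hb
      have h3 := BG.rank2_exponent_p_p3group (prankLE_subgroup hr D) he
      refine Nat.le_of_mul_le_mul_right ?_ hp.out.pos
      calc Nat.card (D.map f) * p ≤ Nat.card (D.map f) * Nat.card ↥⁅D, D⁆ :=
            Nat.mul_le_mul_left _ h2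
        _ ≤ p ^ 3 := h1 ▸ h3
        _ = p ^ 2 * p := by ring
  obtain ⟨φ, hφ⟩ := exists_hom_GL_le hW hcard
  refine ⟨φ.comp f, fun g hg hco => hf g (by rw [normalizer_eq_top]; trivial) hco ?_⟩
  have h1 : ⁅D, zpowers g⁆ ≤ ⁅D, D⁆ := by
    rw [commutator_le_iff_map_eq_bot, commutator_eq_bot_iff_le_centralizer, le_centralizer_comm,
      MonoidHom.map_zpowers, zpowers_le]
    exact hφ _ hg
  have h2 := coprime_le_centralizer_of_commutator_le_frattini (zpowers g) D
    (by rw [normalizer_eq_top]; exact le_top)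
    (coprime_card_of_isPGroup_of_coprime (hD.to_subgroup _) (by rwa [Nat.card_zpowers])).symm
    (h1.trans (PG.commutator_le_frattini_map hD))
  exact zpowers_le.1 (le_centralizer_comm.1 h2)

theorem card_ne_sq_GL (E : Subgroup (GL (Fin 2) (ZMod p))) : Nat.card E ≠ p ^ 2 := by
  intro h
  have h1 := card_subgroup_dvd_card E
  rw [h, SL.card_GL_two, Nat.card_zmod] at h1
  have hp1 := hp.out.one_lt
  have h2 : p ^ 2 - p = p * (p - 1) := by rw [Nat.mul_sub_one, pow_two]
  rw [h2, mul_left_comm, pow_two] at h1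
  have h3 := Nat.dvd_of_mul_dvd_mul_left hp.out.pos h1
  rw [← pow_two] at h3
  rcases (Nat.Prime.dvd_mul hp.out).1 h3 with h4 | h4
  · exact hp.out.one_lt.ne' ((Nat.Coprime.eq_one_of_dvd Th.coprime_sq_sub_one.symm h4))
  · exact absurd (Nat.le_of_dvd (by omega) h4) (by omega)

theorem exists_hom_SL {U : Subgroup (GL (Fin 2) (ZMod p))}
    (h : U ≤ (Matrix.GeneralLinearGroup.det).ker) :
    ∃ ψ : U →* SL(2, ZMod p), Function.Injective ψ := by
  refine ⟨MonoidHom.mk' (fun u => ⟨(u.1 : Matrix (Fin 2) (Fin 2) (ZMod p)), ?_⟩) ?_, ?_⟩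
  · have := congrArg Units.val (show Matrix.GeneralLinearGroup.det u.1 = 1 from h u.2)
    simpa using this
  · intro a b
    exact Subtype.ext rfl
  · intro a b hab
    exact Subtype.ext (Units.ext (congrArg Subtype.val hab))

theorem isCyclic_of_le_SL {q : ℕ} [Fact q.Prime] (hq2 : q ≠ 2) (hqp : q ≠ p)
    {U : Subgroup (GL (Fin 2) (ZMod p))} (h : U ≤ (Matrix.GeneralLinearGroup.det).ker)
    (hU : IsPGroup q U) : IsCyclic U := by
  obtain ⟨ψ, hψ⟩ := exists_hom_SL h
  obtain ⟨S, hS⟩ := (hU.of_surjective ψ.rangeRestrict ψ.rangeRestrict_surjective).exists_le_sylow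
  have := Cfsg.Agent.S0262.result p q hq2 hqp S
  have h1 : IsCyclic ψ.range := BG.Sec4.isCyclic_of_le' this hS
  exact isCyclic_of_surjective (MonoidHom.ofInjective hψ).symm (MulEquiv.surjective _)

theorem exists_big_cyclic (hp2 : p ≠ 2) {U : Subgroup (GL (Fin 2) (ZMod p))}
    (h : U ≤ (Matrix.GeneralLinearGroup.det).ker) (hU : IsPGroup 2 U) :
    ∃ c : U, Nat.card U ≤ 2 * orderOf c := by
  obtain ⟨ψ, hψ⟩ := exists_hom_SL h
  have hodd : Odd (Fintype.card (ZMod p)) := by
    rw [ZMod.card]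
    exact hp.out.odd_of_ne_two hp2
  have key : ∀ x : U, orderOf x = 2 → (ψ x : Matrix (Fin 2) (Fin 2) (ZMod p)) = -1 := by
    intro x hx
    refine Cfsg.Agent.S0268.result hodd _ (fun h1 => ?_) ?_
    · rw [(map_eq_one_iff ψ hψ).1 h1, orderOf_one] at hx
      exact absurd hx (by decide)
    · have h2 := pow_orderOf_eq_one x
      rw [hx] at h2
      rw [← map_mul, ← pow_two, h2, map_one]
  rcases PCyc.isCyclic_or_quaternion hU (fun x y hx hy _ => by
    rw [hψ (Subtype.ext ((key y hy).trans (key x hx).symm))]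
    exact mem_zpowers x) with hc | ⟨-, n, ⟨e⟩⟩
  · obtain ⟨c, hc⟩ := IsCyclic.exists_ofOrder_eq_natCard (α := U)
    exact ⟨c, by omega⟩
  · refine ⟨e.symm (QuaternionGroup.a 1), ?_⟩
    rw [MulEquiv.orderOf_eq, QuaternionGroup.orderOf_a_one, Nat.card_congr e.toEquiv,
      Nat.card_eq_fintype_card, QuaternionGroup.card]
    omega

omit [Finite G] in
theorem map_commutator_le_det {A B : Subgroup G} (φ : G →* GL (Fin 2) (ZMod p)) :
    (⁅A, B⁆ : Subgroup G).map φ ≤ (Matrix.GeneralLinearGroup.det).ker := by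
  rw [map_le_iff_le_comap, commutator_le]
  intro a _ b _
  rw [mem_comap, MonoidHom.mem_ker, map_commutatorElement, map_commutatorElement,
    commutatorElement_eq_one_iff_mul_comm, mul_comm]

end CL.QT
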