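/-
`𝒞`-components of strongly quasithin K-groups and of the members of `ℋ`.
-/
import Mathlib
import Cfsg.Agent.QT.C3
import Cfsg.Agent.KSG.KOut

set_option autoImplicit false

namespace CL.QT

open Cfsg Subgroup CL.Comp CL.MSS CL.Rank CL.SR
open scoped commutatorElement

variable {G G' : Type*} [Group G] [Group G'] [Finite G]

/-- the projection modulo `O₂` -/
abbrev bar (G : Type*) [Group G] : G →* G ⧸ pCore 2 G := QuotientGroup.mk' (pCore 2 G)

theorem ker_bar_solv : Group.IsSolvable (bar G).ker := by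
  rw [QuotientGroup.ker_mk']
  exact isSolvable_of_isPGroup' (isPGroup_pCore 2 G)

theorem sqt_bar (hG : IsStronglyQuasithin G) : IsStronglyQuasithin (G ⧸ pCore 2 G) := by
  intro p hp hp2
  have := Fact.mk hp
  refine prankLE_of_surjective (QuotientGroup.mk'_surjective _) ?_ (hG p hp hp2)
  rw [QuotientGroup.ker_mk']
  obtain ⟨k, hk⟩ := IsPGroup.iff_card.1 (isPGroup_pCore 2 G)
  rw [hk]
  exact Nat.Coprime.pow_left k ((Nat.coprime_primes Nat.prime_two hp).2 (Ne.symm hp2))

theorem calC_bar {L : Subgroup G} (h : L ∈ calC G) : L.map (bar G) ∈ calC (G ⧸ pCore 2 G) :=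
  calC_map h (QuotientGroup.mk'_surjective _) ((calC_minP h).map_ne_bot _ ker_bar_solv)

theorem nonempty_equiv_bar {L : Subgroup G} (h : L.IsSubnormal) :
    Nonempty (L ⧸ pCore 2 L ≃* L.map (bar G)) := by
  refine ⟨(QuotientGroup.quotientMulEquivOfEq ?_).trans
    (QuotientGroup.quotientKerEquivOfSurjective _ ((bar G).subgroupMap_surjective L))⟩
  apply Subgroup.map_injective L.subtype_injective
  rw [map_pCore_of_isSubnormal h, Subgroup.ker_subgroupMap, QuotientGroup.ker_mk',
    subgroupOf_map_subtype]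

theorem calC_commutator_le (hG : IsStronglyQuasithin G) {L₁ L₂ : Subgroup G} (h₁ : L₁ ∈ calC G)
    (h₂ : L₂ ∈ calC G) (hne : L₁ ≠ L₂) : ⁅L₁, L₂⁆ ≤ pCore 2 G :=
  commutator_le_iff_map_eq_bot.2 (calC_commute (sqt_bar hG) (pCore_quotient_pCore 2 G)
    (calC_bar h₁) (calC_bar h₂) fun he => hne (calC_map_inj h₁ h₂ _ ker_bar_solv he))

theorem calC_normal_or (hG : IsStronglyQuasithin G) {L : Subgroup G} (h : L ∈ calC G) :
    L.Normal ∨ ((normalizer (L : Set G)).index = 2 ∧ IsSimpleGroup (L ⧸ pCore 2 L) ∧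
      ∀ p : ℕ, p.Prime → p ≠ 2 → PRankLE p 1 (L ⧸ pCore 2 L)) := by
  refine or_iff_not_imp_left.2 fun hn => ?_
  obtain ⟨g, hg⟩ := exists_not_mem_normalizer hn
  rw [normalizer_calC h _ ker_bar_solv, mem_comap] at hg
  obtain ⟨e⟩ := nonempty_equiv_bar (calC_subnormal h)
  have hG' := sqt_bar hG
  have h2 := pCore_quotient_pCore 2 G
  refine ⟨?_, ?_, fun p hp hp2 => (prankLE_congr e).2 (nn_rank hG' h2 (calC_bar h) hg p hp hp2)⟩
  · rw [normalizer_calC h _ ker_bar_solv,
      index_comap_of_surjective _ (QuotientGroup.mk'_surjective _)]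
    exact nn_index hG' h2 (calC_bar h) hg
  · have := nn_simple hG' h2 (calC_bar h) hg
    exact e.isSimpleGroup

omit [Finite G] in
theorem perfect_le_of_index_two {J N : Subgroup G} (hJ : ⁅J, J⁆ = J) (h : N.index = 2) : J ≤ N := by
  have hn : N.Normal := normal_of_index_eq_two h
  have hc : IsCyclic (G ⧸ N) := isCyclic_of_prime_card (p := 2) h
  have : _root_.commutator G ≤ N := by
    rw [← Subgroup.Normal.quotient_commutative_iff_commutator_le]
    exact hc.isMulCommutative
  exact hJ.ge.trans ((commutator_mono le_top le_top).trans this)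

theorem perfect_le_normalizer_calC (hG : IsStronglyQuasithin G) {L J : Subgroup G} (h : L ∈ calC G)
    (hJ : ⁅J, J⁆ = J) : J ≤ normalizer (L : Set G) := by
  rcases calC_normal_or hG h with h1 | h1
  · rw [normalizer_eq_top]
    exact le_top
  · exact perfect_le_of_index_two hJ h1.1

theorem perfect_le_sSup_calC (hG : IsStronglyQuasithin G) (hK : IsKGroup G) {J : Subgroup G}
    (hJ : ⁅J, J⁆ = J) : J ≤ sSup (calC G) := by
  set π := QuotientGroup.mk' (solvableRadical G) with hπ
  have hπs : Function.Surjective π := QuotientGroup.mk'_surjective _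
  have hR := solvableRadical_quotient G
  have h1 : J.map π ≤ layer _ := by
    refine le_layer_of_perfect_of_inner (map_perfect hJ π) ?_ fun K hKc => ?_
    · have : fittingSubgroup (G ⧸ solvableRadical G) = ⊥ := by
        refine le_bot_iff.1 ?_
        rw [← hR]
        have := isNilpotent_fittingSubgroup (G ⧸ solvableRadical G)
        exact le_solvableRadical inferInstance
      rw [this]
      exact le_centralizer_comm.1 bot_le
    · have hs := hKc.isQuasisimple.2
      refine le_sup_centralizer_of_schreier hKc.commutator_self (KOut.solvable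
        (KG.known_quotient_center (KG.isKGroup_subgroup (KG.isKGroup_quotient hK _) K)
          hKc.isQuasisimple)) (map_perfect hJ π) ?_
      obtain ⟨h2, h3⟩ := calC_pc_comap (calC_of_isComponent hKc) hπs ker_rad_solv
      rw [← h3]
      exact (map_mono (perfect_le_normalizer_calC hG h2 hJ)).trans (le_normalizer_map π)
  rw [← map_sSup_calC, ← hπ] at h1
  refine perfect_le_of_subnormal hJ (isSolvable_solvableRadical G) sSup_calC_normal.isSubnormal ?_
  have := (le_comap_map π J).trans (comap_mono h1)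
  rwa [comap_map_eq, hπ, QuotientGroup.ker_mk'] at this

theorem sSup_calC_eq (hG : IsStronglyQuasithin G) (hK : IsKGroup G) :
    sSup (calC G) = perfectCore G :=
  le_antisymm (sSup_le fun _ h => le_sSup (calC_minP h).perf)
    (sSup_le fun _ h => perfect_le_sSup_calC hG hK h)

section calH

variable {H : Subgroup G}

omit [Finite G] in
theorem pCoreOf_ne_bot (hH : H ∈ calH G) : (pCore 2 H).map H.subtype ≠ ⊥ := fun h =>
  hH ((Subgroup.map_eq_bot_iff_of_injective _ H.subtype_injective).1 h)

theorem twoLocal_normalizer (hH : H ∈ calH G) :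
    IsTwoLocal (normalizer (((pCore 2 H).map H.subtype : Subgroup G) : Set G)) :=
  ⟨_, isPGroup_map_pCore _, pCoreOf_ne_bot hH, rfl⟩

omit [Finite G] in
theorem le_normalizer_pCoreOf (H : Subgroup G) :
    H ≤ normalizer (((pCore 2 H).map H.subtype : Subgroup G) : Set G) :=
  le_normalizer.trans (normalizer_le_normalizer_map_pCore H)

omit [Finite G] in
theorem mem_calH_of_le {Q : Subgroup G} (hQ : IsPGroup 2 Q) (h1 : Q ≠ ⊥) (hle : Q ≤ H)
    (hn : H ≤ normalizer (Q : Set G)) : H ∈ calH G := fun h => by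
  have := le_map_pCore hle hn hQ
  rw [h, Subgroup.map_bot, le_bot_iff] at this
  exact h1 this

omit [Finite G] in
theorem mem_calH_of_twoLocal (h : IsTwoLocal H) : H ∈ calH G := by
  obtain ⟨Q, hQ, h1, rfl⟩ := h
  exact mem_calH_of_le hQ h1 le_normalizer le_rfl

theorem sqt_of_calH (hQ : IsQuasithin G) (hH : H ∈ calH G) : IsStronglyQuasithin H :=
  fun p hp hp2 => prankLE_mono (le_normalizer_pCoreOf H) (hQ p hp hp2 _ (twoLocal_normalizer hH))

theorem ne_top_of_calH [IsSimpleGroup G] (hG : ¬ IsMulCommutative G) (hH : H ∈ calH G) :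
    H ≠ ⊤ := by
  rintro rfl
  have h1 := pCoreOf_ne_bot hH
  rw [map_pCore_top] at h1
  rcases (inferInstance : (pCore 2 G).Normal).eq_bot_or_eq_top with h | h
  · exact h1 h
  · exact (isQuasisimple_of_isSimpleGroup hG).not_isSolvable
      (isSolvable_of_isPGroup' (pCore_eq_top_iff.1 h))

theorem isKGroup_of_calH [IsSimpleGroup G] (hG : ¬ IsMulCommutative G) (hK : IsKProper G)
    (hH : H ∈ calH G) : IsKGroup H :=
  hK H (ne_top_of_calH hG hH)

/-- uniqueness of the maximal 2-local subgroup -/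
theorem maxTwoLocals_eq {U Y : Subgroup G} (hY : Y ∈ calH G)
    (hU : U ≤ normalizer (Y : Set G)) (h : ∀ H ∈ calHOver U, H ≤ normalizer (Y : Set G)) :
    maxTwoLocalsContaining U = {normalizer (Y : Set G)} := by
  have h1 := normalizer_le_normalizer_map_pCore (p := 2) Y
  have h2 : IsTwoLocal (normalizer (Y : Set G)) := by
    rw [le_antisymm h1 (h _ ⟨mem_calH_of_twoLocal (twoLocal_normalizer hY), hU.trans h1⟩)]
    exact twoLocal_normalizer hY
  ext M
  constructor
  · rintro ⟨hM, hUM⟩
    exact (hM.2 _ h2 (h M ⟨mem_calH_of_twoLocal hM.1, hUM⟩)).symm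
  · rintro rfl
    exact ⟨⟨h2, fun N hN hle => le_antisymm (h N ⟨mem_calH_of_twoLocal hN, hU.trans hle⟩) hle⟩, hU⟩

/-- subnormal subgroups of 2-locals over a Sylow 2-subgroup have characteristic 2 -/
theorem isPGroup_fstarOf (hE : IsOfEvenCharacteristic G) (T : Sylow 2 G) {M N : Subgroup G}
    (hM : IsTwoLocal M) (hT : (T : Subgroup G) ≤ M) (hN : N ≤ M)
    (hs : (N.subgroupOf M).IsSubnormal) : IsPGroup 2 (fstarOf N) :=
  isPGroup_fstarOf_of_subnormalIn hN hs (fstar_eq_pCore_iff_isPGroup_fstarOf.1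
    (fstar_eq_pCore_iff_centralizer.2 (hE M hM ⟨T, hT⟩)))

theorem mem_calH_of_fstarOf {N : Subgroup G} (h : IsPGroup 2 (fstarOf N)) (h1 : N ≠ ⊥) :
    N ∈ calH G :=
  mem_calH_of_le h (fun he => h1 (fstarOf_eq_bot_iff.1 he)) (fstarOf_le N) (le_normalizer_fstarOf N)

end calH

end CL.QT
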