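/-
Members of `ℒ(G, T)` lie in `𝒞`-components of the overgroups.
-/
import Mathlib
import Cfsg.Agent.QT.C4

set_option autoImplicit false

namespace CL.QT

open Cfsg Subgroup CL.Comp CL.MSS CL.Rank CL.SR
open scoped commutatorElement

variable {G G' : Type*} [Group G] [Group G'] [Finite G]

theorem relIndex_sup_of_le {S C X : Subgroup G} (hn : S ≤ normalizer (C : Set G)) (hC : C ≤ X) :
    X.relIndex (S ⊔ C) = X.relIndex S := by
  have h1 : X ⊓ (S ⊔ C) = (X ⊓ S) ⊔ C := by
    rw [sup_comm, inf_sup_of_normalizes' hC hn, sup_comm]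
  have h2 := card_mul_relIndex' (inf_le_right : X ⊓ (S ⊔ C) ≤ S ⊔ C)
  have h3 := card_mul_relIndex' (inf_le_right : X ⊓ S ≤ S)
  have h4 := card_sup_mul_card_inf_of_le_normalizer hn
  have h5 := card_sup_mul_card_inf_of_le_normalizer (inf_le_right.trans hn : X ⊓ S ≤ _)
  have h6 : X ⊓ S ⊓ C = S ⊓ C := by
    rw [inf_assoc]
    exact inf_eq_right.2 (inf_le_right.trans hC)
  rw [inf_relIndex_right] at h2 h3
  rw [h6, ← h1] at h5
  rw [← h2, ← h3] at h4
  have p1 : 0 < Nat.card ↥(X ⊓ S) * Nat.card C := Nat.mul_pos Nat.card_pos Nat.card_pos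
  refine Nat.eq_of_mul_eq_mul_left p1 ?_
  calc Nat.card ↥(X ⊓ S) * Nat.card C * X.relIndex (S ⊔ C)
      = Nat.card ↥(X ⊓ (S ⊔ C)) * X.relIndex (S ⊔ C) * Nat.card ↥(S ⊓ C) := by rw [← h5]; ring
    _ = _ := by rw [h4]; ring

theorem le_of_commutator_sylow {L S C T W : Subgroup G} (hL : ⁅L, L⁆ = L) (hLS : L ≤ S ⊔ C)
    (hn : S ≤ normalizer (C : Set G)) (hT : SylIn 2 T S) (hW : Group.IsSolvable W)
    (hLW : L ≤ normalizer (W : Set G)) (hTW : T ≤ normalizer (W : Set G)) (h : ⁅L, T⁆ ≤ W) :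
    L ≤ C := by
  have hTS : T ≤ S ⊔ C := hT.le.trans le_sup_left
  have hn' : S ⊔ C ≤ normalizer (C : Set G) := sup_le hn le_normalizer
  set W' := W ⊓ (S ⊔ C) with hW'
  have hLW' : L ≤ normalizer (W' : Set G) := le_normalizer_inf hLW (hLS.trans le_normalizer)
  have hTW' : T ≤ normalizer (W' : Set G) := le_normalizer_inf hTW (hTS.trans le_normalizer)
  have h1 : ⁅L, T⁆ ≤ W' := le_inf h ((commutator_mono hLS hTS).trans (comm_self_le _))
  have h2 : L ≤ normalizer ((T ⊔ W' : Subgroup G) : Set G) :=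
    le_normalizer_iff_commutator_le_right.2 ((commutator_sup_le hTW' le_normalizer h1
      (commutator_le_right_of_normalizes hLW')).trans le_sup_right)
  have h3 : L ≤ normalizer ((C ⊔ (T ⊔ W') : Subgroup G) : Set G) :=
    le_normalizer_sup (hLS.trans hn') h2
  have h4 : T ⊔ W' ≤ S ⊔ C := sup_le hTS inf_le_right
  have h5 : Group.IsSolvable ↥(T ⊔ W') := isSolvable_sup_of_le_normalizer hTW'
    (isSolvable_of_isPGroup' hT.pgroup) (isSolvable_of_le inf_le_left hW)
  refine perfect_le_of_le_sup hL h5 (h4.trans hn') ?_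
  set V := C ⊔ (T ⊔ W') with hV
  have := normal_subgroupOf_of_le_normalizer h3
  refine perfect_le_of_quot hL (Cfsg.Agent.S0205.result (Nat.odd_iff.2 ?_))
  have h6 : V.relIndex L ∣ T.relIndex S := by
    rw [← relIndex_sup_of_normalizes h3]
    refine (Dvd.intro _ (relIndex_mul_relIndex V (L ⊔ V) (S ⊔ C) le_sup_right
      (sup_le hLS (sup_le le_sup_right h4)))).trans ?_
    rw [relIndex_sup_of_le hn le_sup_left]
    exact relIndex_dvd_of_le_left _ (le_sup_left.trans le_sup_right)
  have h7 : ¬ 2 ∣ V.relIndex L := fun h8 => hT.not_dvd_relIndex (h8.trans h6)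
  change V.relIndex L % 2 = 1
  omega

theorem fitting_eq_bot_of_rad (h : solvableRadical G = ⊥) : fittingSubgroup G = ⊥ := by
  refine le_bot_iff.1 ?_
  rw [← h]
  have := isNilpotent_fittingSubgroup G
  exact le_solvableRadical inferInstance

theorem exists_calC_ge (hG : IsStronglyQuasithin G) (hK : IsKGroup G) {T L : Subgroup G}
    (hT : SylIn 2 T ⊤) (hL : L.subgroupOf (L ⊔ T) ∈ calC ↥(L ⊔ T)) : ∃ K ∈ calC G, L ≤ K := by
  have hm := ((calC_subgroupOf_iff le_sup_left).1 hL).2
  set π := QuotientGroup.mk' (solvableRadical G) with hπ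
  have hπs : Function.Surjective π := QuotientGroup.mk'_surjective _
  have h1 : L.map π ≤ layer _ := by
    rw [← map_sSup_calC]
    exact map_mono (perfect_le_sSup_calC hG hK hm.perf)
  obtain ⟨S, hS, hSc⟩ : ∃ S : Subgroup (G ⧸ solvableRadical G), IsComponent S ∧
      ¬ L.map π ≤ centralizer (S : Set (G ⧸ solvableRadical G)) := by
    by_contra hne
    push Not at hne
    refine hm.map_ne_bot π ker_rad_solv (le_bot_iff.1 ?_)
    rw [← fitting_eq_bot_of_rad (solvableRadical_quotient G)]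
    refine (le_inf h1 ?_).trans (inf_centralizer_le_fitting _)
    exact le_centralizer_comm.1 (layer_le_iff.2 fun K hKc => le_centralizer_comm.1 (hne K hKc))
  obtain ⟨h2, h3⟩ := calC_pc_comap (calC_of_isComponent hS) hπs ker_rad_solv
  set K := pc (S.comap π)
  refine ⟨K, h2, ?_⟩
  rcases calC_le_or hL ((calC_subnormal h2).subgroupOf (K := L ⊔ T)) with h4 | h4
  · intro x hx
    exact h4 (show (⟨x, mem_sup_left hx⟩ : ↥(L ⊔ T)) ∈ L.subgroupOf (L ⊔ T) from hx)
  exfalso
  set R := (solvableRadical ↥(L ⊔ T)).map (L ⊔ T).subtype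
  have hRn : L ⊔ T ≤ normalizer (R : Set G) := by
    refine le_trans ?_ (le_normalizer_map (L ⊔ T).subtype)
    rw [normalizer_eq_top, ← MonoidHom.range_eq_map, range_subtype]
  have hRs : Group.IsSolvable R := isSolvable_map_subtype_iff.2 (isSolvable_solvableRadical _)
  have h5 : ⁅L, T ⊓ K⁆ ≤ R := by
    refine le_trans ?_ (map_mono h4)
    rw [Subgroup.map_commutator, subgroupOf_map_subtype, subgroupOf_map_subtype]
    exact commutator_mono (le_inf le_rfl le_sup_left)
      (le_inf inf_le_right (inf_le_left.trans le_sup_right))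
  have h6 := (sylIn_inf_subnormal hT (calC_subnormal h2)).map π
  rw [h3] at h6
  refine hSc (le_of_commutator_sylow (map_perfect hm.perf π) ?_
    (le_normalizer_centralizer le_normalizer) h6 (isSolvable_map R π)
    ((map_mono (le_sup_left.trans hRn)).trans (le_normalizer_map π))
    ((map_mono (inf_le_left.trans (le_sup_right.trans hRn))).trans (le_normalizer_map π)) ?_)
  · refine h1.trans ?_
    rw [layer_eq_centralizer_sup_commutator S, commutator_comm, hS.commutator_layer, sup_comm]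
    exact sup_le_sup_left inf_le_right _
  · rw [← Subgroup.map_commutator]
    exact map_mono h5

/-- `𝒞`-components of members of `ℋ(T)` lie in `ℒ(G, T)` -/
theorem mem_calL (T : Sylow 2 G) {H : Subgroup G} (hH : H ∈ calH G) (hT : (T : Subgroup G) ≤ H)
    {K : Subgroup H} (hK : K ∈ calC H) : K.map H.subtype ∈ calL (T : Subgroup G) := by
  have hle : K.map H.subtype ⊔ T ≤ H := sup_le (map_subtype_le K) hT
  refine ⟨(calC_subgroupOf_iff le_sup_left).2 ⟨subnormalIn_mono hle ?_,
    (calC_minP hK).map_injective H.subtype_injective⟩,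
    ⟨(sylIn_sylow T le_sup_right).toSylow, rfl⟩, ?_⟩
  · rw [subgroupOf_map_subtype_self]
    exact calC_subnormal hK
  · exact mem_calH_of_le (isPGroup_map_pCore _) (pCoreOf_ne_bot hH)
      (((sylIn_sylow T hT).le_of_normalized (isPGroup_map_pCore _) (map_subtype_le _)
        (hT.trans (le_normalizer_pCoreOf H))).trans le_sup_right)
      (hle.trans (le_normalizer_pCoreOf H))

omit [Finite G] in
theorem le_conjClosure (L T : Subgroup G) : L ≤ conjClosure L T :=
  le_iSup_of_le (1 : T) (cj_one L).ge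

omit [Finite G] in
theorem cj_le_conjClosure (L : Subgroup G) {T : Subgroup G} {t : G} (ht : t ∈ T) :
    t •ᶜ L ≤ conjClosure L T :=
  le_iSup_of_le (⟨t, ht⟩ : T) le_rfl

omit [Finite G] in
theorem conjClosure_le {L T H : Subgroup G} (hL : L ≤ H) (hT : T ≤ normalizer (H : Set G)) :
    conjClosure L T ≤ H :=
  iSup_le fun t => cj_le_of_mem_normalizer hL (hT t.2)

omit [Finite G] in
theorem le_normalizer_conjClosure {L T H : Subgroup G} (hT : T ≤ H)
    (h : ∀ x ∈ H, ∃ t ∈ T, t⁻¹ * x ∈ normalizer (L : Set G)) :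
    H ≤ normalizer (conjClosure L T : Set G) := by
  refine le_normalizer_of_cj_le fun x hx => ?_
  rw [conjClosure, cj_iSup]
  refine iSup_le fun s => ?_
  obtain ⟨t, ht, h1⟩ := h (x * s) (mul_mem hx (hT s.2))
  rw [← cj_mul, show x * s = t * (t⁻¹ * (x * s)) by group, cj_mul, cj_eq_of_mem_normalizer h1]
  exact cj_le_conjClosure L ht

theorem exists_mul_mem_of_index_two {T N : Subgroup G} (hT : SylIn 2 T ⊤) (hN : N.index = 2)
    (x : G) : ∃ t ∈ T, t⁻¹ * x ∈ N := by
  by_cases hx : x ∈ N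
  · exact ⟨1, one_mem T, by simpa using hx⟩
  have : ¬ T ≤ N := fun h => hT.not_dvd_relIndex (by
    rw [relIndex_top_right, ← hN]
    exact index_dvd_of_le h)
  obtain ⟨t, ht, htN⟩ := SetLike.not_le_iff_exists.1 this
  exact ⟨t, ht, (mul_mem_iff_of_index_two hN).2 (by simp [hx, htN])⟩

theorem le_normalizer_conjClosure_of_calC {H L T : Subgroup G} (hH : IsStronglyQuasithin H)
    (hT : SylIn 2 T H) (hLH : L ≤ H) (hL : L.subgroupOf H ∈ calC H) :
    H ≤ normalizer (conjClosure L T : Set G) := by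
  have key : ∀ x : H, x ∈ normalizer ((L.subgroupOf H : Subgroup H) : Set H) →
      (x : G) ∈ normalizer (L : Set G) := fun x hx => by
    have := le_normalizer_map H.subtype (mem_map_of_mem _ hx)
    rwa [subgroupOf_map_subtype, inf_eq_left.2 hLH] at this
  refine le_normalizer_conjClosure hT.le fun x hx => ?_
  rcases calC_normal_or hH hL with h | h
  · refine ⟨1, one_mem T, ?_⟩
    rw [inv_one, one_mul]
    exact key ⟨x, hx⟩ (by rw [normalizer_eq_top]; trivial)
  · have h1 := hT.subgroupOf le_rfl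
    rw [subgroupOf_self] at h1
    obtain ⟨t, ht, h2⟩ := exists_mul_mem_of_index_two h1 h.1 ⟨x, hx⟩
    exact ⟨t, ht, key _ h2⟩

end CL.QT
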