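/-
Elementary abelian subgroups of odd rank two in the alternating and sporadic groups.
-/
import Mathlib
import Cfsg.Agent.QT.K4
import Cfsg.Agent.QT.K5
import Cfsg.Agent.SPOR.LeechOrder
import Cfsg.Agent.SPOR.M12b
import Cfsg.Agent.SPOR.RuGrp
import Cfsg.Agent.TECH.Exp2Mat
import Cfsg.Agent.S0380
import Cfsg.Agent.S1074
import Cfsg.Agent.S1624
import Cfsg.Agent.S1682
import Cfsg.Agent.S1708
import Cfsg.Agent.S1710
import Cfsg.Agent.S1711
import Cfsg.Agent.S5619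

set_option autoImplicit false

namespace CL.QT

open Cfsg Cfsg.Spor Cfsg.Agent Subgroup Equiv
open scoped commutatorElement

theorem nc_alt (n : ℕ) : NC (alternatingGroup (Fin (n + 6))) := by
  let e : Fin 6 ↪ Fin (n + 6) := Fin.castLEEmb (by omega)
  have h : NC (alternatingGroup (Fin 6)) :=
    NC.of_wit Nat.prime_three (by decide) (subtype_injective _) (x := c[0, 1, 2]) (y := c[3, 4, 5]) (v := c[3, 4])
      ((range_subtype _).ge (Perm.mem_alternatingGroup.2 (by decide)))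
      ((range_subtype _).ge (Perm.mem_alternatingGroup.2 (by decide))) (by decide) (by decide)
      (by unfold Commute SemiconjBy; decide) (by decide) (by unfold Commute SemiconjBy; decide)
      (by unfold Commute SemiconjBy; decide)
  refine h.of_range_le (f := (Perm.extendDomainHom (Equiv.ofInjective e.1 e.2)).comp (Subgroup.subtype _))
    ((Perm.extendDomainHom_injective _).comp (subtype_injective _)) (subtype_injective _) ?_
  rintro _ ⟨x, rfl⟩
  refine (range_subtype _).ge (Perm.mem_alternatingGroup.2 ?_)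
  exact (Perm.sign_extendDomain _ _).trans x.2

theorem nc_M11 : NC M11 := by
  have hd := CL.Golay.D0_mem
  rw [← CL.M12.squareDodecad_eq] at hd
  have := Fact.mk Nat.prime_three
  obtain ⟨-, h1, h2⟩ := (S5619.result _ hd (some 0) (some 1) (some 4) (by decide +kernel) (by decide +kernel)
    (by decide +kernel) (by decide) (by decide) (by decide)).1 default
  refine (NC.of_not_isCyclic Nat.prime_three (by decide) (Sylow.isPGroup' _) fun h =>
    absurd (h1 ▸ BG.Sec4.card_le_of_isCyclic_of_pow h h2) (by decide)).of_range_le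
    (f := (Subgroup.subtype _).comp (Subgroup.subtype _)) ((subtype_injective _).comp (subtype_injective _)) (subtype_injective _) ?_
  rintro _ ⟨x, rfl⟩
  exact (range_subtype _).ge ⟨⟨x.1.2, x.2.1.1.1⟩, x.2.1.1.2⟩

theorem nc_M22 : NC M22 := by
  have := Fintype.ofFinite (GaloisField 2 2)
  have hF : Fintype.card (GaloisField 2 2) = 4 := by
    rw [← Nat.card_eq_fintype_card, GaloisField.card 2 2 (by decide)]; rfl
  obtain ⟨e⟩ := S0380.result none (some 0) (some 1) (by decide) (by decide) (by decide) _ hF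
  refine ((nc_PSL (n := 0) (by omega)).of_equiv e).of_range_le
    (f := (Subgroup.subtype _).comp (Subgroup.subtype _)) ((subtype_injective _).comp (subtype_injective _)) (subtype_injective _) ?_
  rintro _ ⟨x, rfl⟩
  exact (range_subtype _).ge ⟨⟨x.1.2, x.2.1.1⟩, x.2.1.2⟩

theorem nc_M24 : NC M24 := nc_M11.of_le (inf_le_left.trans inf_le_left)

theorem nc_of_M22 {H : Subgroup (Perm leechLattice)} (h : Co0 ⊓ MulAction.stabilizer _ leechU ⊓
    MulAction.stabilizer _ leechV ⊓ MulAction.stabilizer _ leechU' ≤ H) : NC H := by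
  have hle : M22 ≤ M24 := inf_le_left.trans inf_le_left
  refine nc_M22.of_range_le (f := ((Subgroup.subtype _).comp Leech.permHom).comp (inclusion hle))
    (((subtype_injective _).comp Leech.permHom_injective).comp (inclusion_injective hle)) (subtype_injective _) ?_
  rintro _ ⟨x, rfl⟩
  have h1 : ∀ i, x.1.symm i = none ↔ i = none := fun i => by
    rw [Equiv.symm_apply_eq, show x.1 none = none from x.2.1.2]
  have h2 : ∀ i, x.1.symm i = some 0 ↔ i = some 0 := fun i => by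
    rw [Equiv.symm_apply_eq, show x.1 (some 0) = some 0 from x.2.2]
  refine (range_subtype _).ge (h ⟨⟨⟨(Leech.permHom _).2, ?_⟩, ?_⟩, ?_⟩) <;>
    refine Subtype.ext (funext fun i => (Leech.permHom_apply (inclusion hle x) _ i).trans ?_) <;>
    simp only [leechU, leechV, leechU', vecU, vecV, vecU', coe_inclusion, h1, h2]

theorem nc_HS : NC HS := nc_of_M22 fun _ h => ⟨⟨h.1.1.1, h.1.2⟩, h.2⟩

theorem nc_Co1 : NC Co1 :=
  (nc_of_M22 (H := Co0) fun _ h => h.1.1.1).of_hom (QuotientGroup.mk' _)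
    (by rw [QuotientGroup.ker_mk']; exact .of_card (n := 1) Leech.card_center)

theorem nc_J3 (F : Type) [Field F] [Fintype F] (hF : Fintype.card F = 4) (ω : F) (hω : ω ^ 2 + ω + 1 = 0) :
    NC (J3 F ω) := by
  have h0 : ω ≠ 0 := by rintro rfl; simp at hω
  have h3 : ω ^ 3 = 1 := by linear_combination (ω - 1) * hω
  have h1 : ω ≠ 1 := by
    rintro rfl
    have h7 := FiniteField.cast_card_eq_zero F
    rw [hF] at h7
    exact one_ne_zero (α := F) (by push_cast at h7; linear_combination h7 - hω)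
  have h3' : ∀ n : ZMod 3, omegaPow F ω n ^ 3 = 1 := fun n => by
    rw [omegaPow, ← pow_mul, mul_comm, pow_mul, h3, one_pow]
  have h12 : ω ^ 2 ≠ ω ^ 1 := fun h5 => h1 (mul_left_cancel₀ h0 (by linear_combination h5))
  let d : ∀ f : F9 → ZMod 3, (Matrix.diagonal fun z => omegaPow F ω (f z)) ∈ j3Gens F ω → threeJ3 F ω := fun f hf =>
    ⟨Matrix.GeneralLinearGroup.mkOfDetNeZero (Matrix.diagonal fun z => omegaPow F ω (f z)) (by
      rw [Matrix.det_diagonal]
      exact Finset.prod_ne_zero_iff.2 fun z _ => pow_ne_zero _ h0), subset_closure hf⟩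
  have hd : ∀ f hf, d f hf ^ 3 = 1 := fun f hf => Subtype.ext (Units.ext (by
    show (Matrix.diagonal _) ^ 3 = 1
    rw [Matrix.diagonal_pow, ← Matrix.diagonal_one]
    exact congrArg _ (funext fun z => h3' _)))
  let B : ∀ Z W : F9, Z ≠ 0 → F9.mul Z W = F9.one → F9.mul W Z = F9.one → threeJ3 F ω := fun Z W a b c =>
    ⟨⟨j3B F Z, j3B F W, by rw [Exp2.j3B_mul, b, Exp2.j3B_one], by rw [Exp2.j3B_mul, c, Exp2.j3B_one]⟩,
      subset_closure (Or.inl (Or.inr ⟨Z, a, rfl⟩))⟩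
  have hB : ∀ f hf Z W a b c, Commute (d f hf) (B Z W a b c) ↔
      ∀ z, omegaPow F ω (f (F9.mul Z z)) = omegaPow F ω (f z) := fun f hf Z W a b c => by
    have : Commute (d f hf) (B Z W a b c) ↔ (Matrix.diagonal fun z => omegaPow F ω (f z)) * j3B F Z =
        j3B F Z * (Matrix.diagonal fun z => omegaPow F ω (f z)) :=
      ⟨fun h => congrArg (fun g : threeJ3 F ω => ((g : GL F9 F) : Matrix F9 F9 F)) h,
        fun h => Subtype.ext (Units.ext h)⟩
    rw [this, ← Matrix.ext_iff]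
    simp only [Matrix.diagonal_mul, Matrix.mul_diagonal, j3B, Matrix.of_apply]
    refine ⟨fun h z => by simpa using h (F9.mul Z z) z, fun h w z => ?_⟩
    split_ifs with h2
    · rw [h2, h, mul_comm]
    · rw [mul_zero, zero_mul]
  have hc : ∀ f hf g hg, ⁅d f hf, d g hg⁆ = 1 := fun f hf g hg =>
    commutatorElement_eq_one_iff_commute.2 (Subtype.ext (Units.ext (Matrix.commute_diagonal _ _).eq))
  clear_value d B
  exact NC.quot_center Nat.prime_three (by decide)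
    (x := d _ (Or.inl (Or.inl (Or.inl (Or.inr ⟨0, rfl⟩))))) (y := d _ (Or.inl (Or.inl (Or.inl (Or.inl ⟨F9.one, rfl⟩)))))
    (v := B (-F9.one) (-F9.one) (by decide) rfl rfl) (w := B (1, 1) (2, 1) (by decide) rfl rfl) (hd _ _) (hd _ _)
    ((hc _ _ _ _).symm ▸ one_mem _) (fun h => h12 ((hB _ _ _ _ _ _ _).1 h F9.one))
    ((hB _ _ _ _ _ _ _).2 fun z => congrArg _ (by revert z; decide)) fun h => h12 ((hB _ _ _ _ _ _ _).1 h F9.one)

theorem nc_spor {K : Type*} [Group K] [Finite K] (hna : ¬ IsMulCommutative K) (h : IsSporadicGroup K) :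
    NC K ∨ IsoJ1 K := by
  have k : ∀ {X : Type} [Group X] (_ : K ≃* X), (Finite X → ¬ IsMulCommutative X → NC X) → NC K ∨ IsoJ1 K :=
    fun e h => .inl ((h (.of_equiv _ e.toEquiv) fun h' =>
      hna ⟨⟨fun a b => e.injective (by rw [map_mul, map_mul, h'.1.1])⟩⟩).of_equiv e)
  rcases h with ⟨⟨e⟩⟩ | ⟨⟨e⟩⟩ | ⟨⟨e⟩⟩ | ⟨⟨e⟩⟩ | ⟨⟨e⟩⟩ | h | ⟨⟨e⟩⟩ | ⟨F, _, _, ω, h1, h2, ⟨e⟩⟩ | ⟨⟨e⟩⟩ | ⟨⟨e⟩⟩ | ⟨⟨e⟩⟩ |
    ⟨⟨e⟩⟩ | ⟨⟨e⟩⟩ | ⟨⟨e⟩⟩ | ⟨⟨e⟩⟩ | ⟨⟨e⟩⟩ | ⟨⟨e⟩⟩ | ⟨⟨e⟩⟩ | ⟨⟨e⟩⟩ | ⟨⟨e⟩⟩ | ⟨⟨e⟩⟩ | ⟨⟨e⟩⟩ | ⟨⟨e⟩⟩ | ⟨⟨e⟩⟩ | ⟨⟨e⟩⟩ |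
    ⟨⟨e⟩⟩
  · exact .inl (nc_M11.of_equiv e)
  · exact .inl ((nc_M11.of_le inf_le_left).of_equiv e)
  · exact .inl (nc_M22.of_equiv e)
  · exact .inl ((nc_M22.of_le inf_le_left).of_equiv e)
  · exact .inl (nc_M24.of_equiv e)
  · exact .inr h
  · obtain ⟨H, -, ⟨F, _, _, hF, ⟨f⟩⟩, -⟩ := S1624.result
    exact .inl (((nc_PSU (n := 0) (q := 3) hF (by omega)).of_equiv f).of_subgroup.of_equiv e)
  · exact .inl ((nc_J3 F h1 ω h2).of_equiv e)
  · exact .inl ((nc_M24.of_equiv S1711.result.some).of_subgroup.of_equiv e)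
  · exact .inl (nc_Co1.of_equiv e)
  · exact .inl ((nc_of_M22 (H := Co2) fun _ h => h.1.1).of_equiv e)
  · exact .inl ((nc_of_M22 (H := Co3) fun _ h => ⟨h.1.1.1, h.1.2⟩).of_equiv e)
  · exact .inl ((nc_of_M22 (H := McL) fun _ h => ⟨⟨h.1.1.1, h.1.2⟩, h.1.1.2⟩).of_equiv e)
  · exact .inl (nc_HS.of_equiv e)
  · exact k e fun _ => nc_Suz
  · obtain ⟨N, F, _, _, -, -, -, ⟨f⟩⟩ := S1682.result
    exact .inl ((((nc_PSp (F := F) 0).of_surjective (QuotientGroup.mk'_surjective _)).of_equiv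
      f).of_subgroup.of_subgroup.of_equiv e)
  · exact .inl (((nc_2F4 (F := ZMod 2) (m := 0) rfl).of_equiv Ru.stabEquiv.symm).of_subgroup.of_equiv
      (e.trans Ru.ruEquiv))
  · exact k e fun _ => nc_ON
  · obtain ⟨F, _, _, -, ⟨f⟩⟩ := S1710.result
    exact .inl ((nc_G2.of_equiv f).of_subgroup.of_equiv e)
  · exact k e fun _ => nc_Fi22
  · exact k e fun _ => nc_Fi23
  · exact k e fun _ => nc_Fi24
  · obtain ⟨N, -, -, -, ⟨f⟩, -⟩ := S1708.result
    exact k e fun _ _ => ((nc_HS.of_equiv f).of_surjective (QuotientGroup.mk'_surjective _)).of_subgroup.of_subgroup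
  · exact k e fun _ => nc_Th
  · exact k e fun _ => nc_B
  · exact k e fun _ => nc_M

theorem nc_tits : NC Lie.TitsGroup := (nc_2F4 (F := ZMod 2) (m := 0) rfl).of_index_two S1074.result.1

end CL.QT
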