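/-
The members of `Ξ(G, T)`: an abstract form closed under homomorphic images.
-/
import Mathlib
import Cfsg.Agent.QT.C5
import Cfsg.Agent.ODD.BG4.Aut

set_option autoImplicit false

namespace CL.QT

open Cfsg Subgroup CL.Comp CL.MSS CL.Rank
open scoped commutatorElement

variable {G G' : Type*} [Group G] [Group G'] [Finite G]

omit [Finite G] in
theorem pow_relIndex_mem' {N H : Subgroup G} (hn : H ≤ normalizer (N : Set G)) {x : G}
    (hx : x ∈ H) : x ^ N.relIndex H ∈ N := by
  have := normal_subgroupOf_of_le_normalizer hn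
  exact pow_index_mem (N.subgroupOf H) ⟨x, hx⟩

theorem odd_mem_of_sup {N Q : Subgroup G} (hQ : IsPGroup 2 Q) (hn : Q ≤ normalizer (N : Set G))
    {x : G} (hx : x ∈ Q ⊔ N) (ho : Odd (orderOf x)) : x ∈ N := by
  have h1 := pow_relIndex_mem' (sup_le hn le_normalizer) hx
  rw [relIndex_sup_of_normalizes hn] at h1
  obtain ⟨k, hk⟩ := IsPGroup.iff_card.1 hQ
  refine mem_of_pow_mem_of_pow_mem (n := orderOf x) ?_ h1 (by rw [pow_orderOf_eq_one]; exact one_mem _)
  refine Nat.Coprime.coprime_dvd_left (relIndex_dvd_card _ _) ?_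
  rw [hk]
  exact Nat.Coprime.pow_left k (Nat.coprime_two_left.2 ho)

/-- `X = O²(X)` is `T`-invariant, `Q` is a normal 2-subgroup, `X / Φ` is elementary abelian of order `p²`,
`|Φ : Q|` divides `p`, and `T` is irreducible on `X / Φ` with `Φ / Q` non-generating -/
structure XiS (p : ℕ) (X T Q Φ : Subgroup G) : Prop where
  odd : X ≤ oddGenerated X
  tn : T ≤ normalizer (X : Set G)
  q2 : IsPGroup 2 Q
  qΦ : Q ≤ Φ
  ΦX : Φ ≤ X
  tΦ : T ≤ normalizer (Φ : Set G)
  idx : Φ.relIndex X = p ^ 2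
  idxQ : Q.relIndex Φ ∣ p
  comm : ⁅X, X⁆ ≤ Φ
  pow : ∀ x ∈ X, x ^ p ∈ Φ
  irr : ∀ Y ≤ X, T ≤ normalizer (Y : Set G) → Y ≤ Φ ∨ Q ⊔ Y = X

namespace XiS

variable {p : ℕ} [hp : Fact p.Prime] {X T Q Φ : Subgroup G}

omit [Finite G] hp in
theorem le_normalizer_of_ge (h : XiS p X T Q Φ) {Y : Subgroup G} (h1 : Φ ≤ Y) (h2 : Y ≤ X) :
    X ≤ normalizer (Y : Set G) :=
  le_normalizer_iff_commutator_le_right.2 ((commutator_mono le_rfl h2).trans (h.comm.trans h1))

omit [Finite G] hp in
theorem nΦ (h : XiS p X T Q Φ) : X ≤ normalizer (Φ : Set G) := h.le_normalizer_of_ge le_rfl h.ΦX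

omit [Finite G] in
theorem not_le (h : XiS p X T Q Φ) : ¬ X ≤ Φ := fun hle => by
  have := h.idx
  rw [relIndex_eq_one.2 hle] at this
  exact absurd this (Nat.one_lt_pow two_ne_zero hp.out.one_lt).ne

omit hp in
theorem dich (h : XiS p X T Q Φ) {N : Subgroup G} (hX : X ≤ normalizer (N : Set G))
    (hT : T ≤ normalizer (N : Set G)) : X ≤ N ∨ X ⊓ N ≤ Φ := by
  rcases h.irr (X ⊓ N) inf_le_left (le_normalizer_inf h.tn hT) with h1 | h1
  · exact Or.inr h1
  · refine Or.inl (h.odd.trans ((closure_le _).2 fun x hx => ?_))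
    exact odd_mem_of_sup h.q2 ((h.qΦ.trans h.ΦX).trans hX)
      ((h1.ge.trans (sup_le_sup_left inf_le_right _)) hx.1) hx.2

omit [Finite G] in
theorem not_cyc (h : XiS p X T Q Φ) {y : G} (hy : y ∈ X) : ¬ X ≤ zpowers y ⊔ Φ := by
  intro hle
  have := normal_subgroupOf_of_le_normalizer h.nΦ
  set f := QuotientGroup.mk' (Φ.subgroupOf X)
  have h1 : zpowers (f ⟨y, hy⟩) = ⊤ := by
    refine eq_top_iff.2 fun z _ => ?_
    obtain ⟨x, rfl⟩ := QuotientGroup.mk'_surjective _ z
    obtain ⟨_, ⟨i, rfl⟩, b, hb, he⟩ :=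
      (mem_sup_of_le_normalizer ((zpowers_le.2 hy).trans h.nΦ)).1 (hle x.2)
    refine ⟨i, ?_⟩
    have h2 : x = ⟨y, hy⟩ ^ i * ⟨b, h.ΦX hb⟩ := Subtype.ext he.symm
    have h3 : f ⟨b, h.ΦX hb⟩ = 1 := (QuotientGroup.eq_one_iff _).2 hb
    change f ⟨y, hy⟩ ^ i = f x
    rw [h2, map_mul, h3, mul_one, map_zpow]
  have h2 : orderOf (f ⟨y, hy⟩) ∣ p := by
    rw [orderOf_dvd_iff_pow_eq_one, ← map_pow]
    exact (QuotientGroup.eq_one_iff _).2 (h.pow y hy)
  rw [← Nat.card_zpowers, h1, card_top] at h2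
  have h3 : Nat.card (X ⧸ Φ.subgroupOf X) = p ^ 2 := h.idx
  rw [h3] at h2
  have := Nat.le_of_dvd hp.out.pos h2
  nlinarith [hp.out.one_lt]

omit [Finite G] in
theorem mem_of_normalizes (h : XiS p X T Q Φ) {y : G} (hy : y ∈ X)
    (hT : T ≤ normalizer ((zpowers y ⊔ Φ : Subgroup G) : Set G)) : y ∈ Φ := by
  rcases h.irr _ (sup_le (zpowers_le.2 hy) h.ΦX) hT with h1 | h1
  · exact h1 (mem_sup_left (mem_zpowers y))
  · exact absurd (h1.ge.trans (sup_le (h.qΦ.trans le_sup_right) le_rfl)) (h.not_cyc hy)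

theorem exists_p2 (h : XiS p X T Q Φ) (hp2 : p ≠ 2) :
    ∃ E ≤ X, IsElementaryAbelian p E ∧ Nat.card E = p ^ 2 := by
  obtain ⟨S, hS⟩ := exists_sylIn p X
  have hc : ¬ IsCyclic S := fun hc => by
    obtain ⟨y, hy⟩ := (isCyclic_iff_exists_zpowers_eq_top.1 hc)
    have h1 : zpowers (y : G) = S := by
      have := congrArg (Subgroup.map S.subtype) hy
      rwa [MonoidHom.map_zpowers, ← MonoidHom.range_eq_map, range_subtype] at this
    refine h.not_cyc (hS.le y.2) ?_
    rw [h1, ← relIndex_eq_one]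
    have h2 : (S ⊔ Φ).relIndex X ∣ p ^ 2 := h.idx ▸ relIndex_dvd_of_le_left _ le_sup_right
    obtain ⟨i, -, hi⟩ := (Nat.dvd_prime_pow hp.out).1 h2
    rcases i with _ | i
    · exact hi
    · exact absurd ((Dvd.intro_left _ (pow_succ p i).symm).trans
        (hi ▸ relIndex_dvd_of_le_left _ le_sup_left)) hS.not_dvd_relIndex
  obtain ⟨E, hE, h2⟩ := QT.exists_p2 hp2 hS.pgroup hc
  exact ⟨E, hE.trans hS.le, h2⟩

theorem le_comm (h : XiS p X T Q Φ) : X ≤ ⁅X, T⁆ := by
  have h1 : ⁅X, T⁆ ≤ X := commutator_le_left_of_normalizes h.tn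
  have h2 : X ≤ normalizer ((⁅X, T⁆ : Subgroup G) : Set G) := by
    rw [commutator_comm]
    exact le_normalizer_commutator_of_le
  rcases h.dich h2 le_normalizer_commutator_of_le with h3 | h3
  · exact h3
  · rw [inf_eq_right.2 h1] at h3
    obtain ⟨y, hy, hy'⟩ := SetLike.not_le_iff_exists.1 h.not_le
    refine absurd (h.mem_of_normalizes hy (le_normalizer_iff_commutator_le_left.2 ?_)) hy'
    exact (commutator_mono (sup_le (zpowers_le.2 hy) h.ΦX) le_rfl).trans (h3.trans le_sup_right)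

omit [Finite G] hp in
theorem subgroupOf (h : XiS p X T Q Φ) {M : Subgroup G} (hX : X ≤ M) (hT : T ≤ M) :
    XiS p (X.subgroupOf M) (T.subgroupOf M) (Q.subgroupOf M) (Φ.subgroupOf M) where
  odd := by
    rw [← map_le_map_iff_of_injective M.subtype_injective, subgroupOf_map_subtype,
      inf_eq_left.2 hX]
    refine h.odd.trans ((closure_le _).2 fun x hx => ?_)
    exact ⟨⟨x, hX hx.1⟩, subset_closure ⟨hx.1, by rw [← orderOf_coe]; exact hx.2⟩, rfl⟩
  tn := (comap_mono h.tn).trans (le_normalizer_comap _)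
  q2 := isPGroup_subgroupOf h.q2 M
  qΦ := comap_mono h.qΦ
  ΦX := comap_mono h.ΦX
  tΦ := (comap_mono h.tΦ).trans (le_normalizer_comap _)
  idx := by rw [relIndex_subgroupOf hX, h.idx]
  idxQ := by rw [relIndex_subgroupOf (h.ΦX.trans hX)]; exact h.idxQ
  comm := by
    rw [← map_le_map_iff_of_injective M.subtype_injective, Subgroup.map_commutator,
      subgroupOf_map_subtype, subgroupOf_map_subtype, inf_eq_left.2 hX,
      inf_eq_left.2 (h.ΦX.trans hX)]
    exact h.comm
  pow := fun x hx => h.pow x hx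
  irr := fun Y hY hn => by
    have h1 : T ≤ normalizer ((Y.map M.subtype : Subgroup G) : Set G) := by
      have := (map_mono (f := M.subtype) hn).trans (le_normalizer_map _)
      rwa [subgroupOf_map_subtype, inf_eq_left.2 hT] at this
    rcases h.irr _ (map_le_iff_le_comap.2 hY) h1 with h2 | h2
    · exact Or.inl (map_le_iff_le_comap.1 h2)
    · refine Or.inr (Subgroup.map_injective M.subtype_injective ?_)
      rw [Subgroup.map_sup, subgroupOf_map_subtype, subgroupOf_map_subtype, inf_eq_left.2 hX,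
        inf_eq_left.2 ((h.qΦ.trans h.ΦX).trans hX), h2]

omit hp in
theorem map (h : XiS p X T Q Φ) (f : G →* G') (hk : X ⊓ f.ker ≤ Φ) :
    XiS p (X.map f) (T.map f) (Q.map f) (Φ.map f) where
  odd := by
    refine (map_mono h.odd).trans ?_
    rw [oddGenerated, MonoidHom.map_closure]
    refine closure_mono ?_
    rintro _ ⟨x, hx, rfl⟩
    exact ⟨mem_map_of_mem f hx.1, hx.2.of_dvd_nat (orderOf_map_dvd f x)⟩
  tn := (map_mono h.tn).trans (le_normalizer_map _)
  q2 := h.q2.map f
  qΦ := map_mono h.qΦ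
  ΦX := map_mono h.ΦX
  tΦ := (map_mono h.tΦ).trans (le_normalizer_map _)
  idx := by
    have hn : ∀ A : Subgroup G, A ≤ normalizer (f.ker : Set G) := fun A => by
      rw [normalizer_eq_top]; exact le_top
    rw [relIndex_map_map, relIndex_sup_of_le (hn X) le_sup_right, ← inf_relIndex_left,
      inf_sup_of_normalizes h.ΦX (hn Φ), sup_eq_left.2 hk, h.idx]
  idxQ := by
    rw [relIndex_map_map, relIndex_sup_of_le (by rw [normalizer_eq_top]; exact le_top) le_sup_right]
    exact (relIndex_dvd_of_le_left _ le_sup_left).trans h.idxQ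
  comm := by
    rw [← Subgroup.map_commutator]
    exact map_mono h.comm
  pow := by
    rintro _ ⟨x, hx, rfl⟩
    rw [← map_pow]
    exact mem_map_of_mem f (h.pow x hx)
  irr := fun Y hY hn => by
    have h1 : (X ⊓ Y.comap f).map f = Y := by
      refine le_antisymm ((map_mono inf_le_right).trans (map_comap_le _ _)) fun y hy => ?_
      obtain ⟨x, hx, rfl⟩ := hY hy
      exact ⟨x, ⟨hx, hy⟩, rfl⟩
    rcases h.irr (X ⊓ Y.comap f) inf_le_left (le_normalizer_inf h.tn
      ((map_le_iff_le_comap.1 hn).trans (le_normalizer_comap f))) with h2 | h2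
    · exact Or.inl (h1 ▸ map_mono h2)
    · right
      conv_rhs => rw [← h2]
      rw [Subgroup.map_sup, h1]

omit hp in
theorem le_ker_or (h : XiS p X T Q Φ) (f : G →* G') :
    X ≤ f.ker ∨ XiS p (X.map f) (T.map f) (Q.map f) (Φ.map f) :=
  (h.dich (by rw [normalizer_eq_top]; exact le_top)
    (by rw [normalizer_eq_top]; exact le_top)).imp id (h.map f)

omit [Finite G] hp in
theorem card_eq (h : XiS p X T Q Φ) : Nat.card X = Nat.card Q * Q.relIndex Φ * p ^ 2 := by
  rw [card_mul_relIndex' h.qΦ, ← h.idx, card_mul_relIndex' h.ΦX]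

theorem coprime_of_ne (h : XiS p X T Q Φ) {r : ℕ} (hr : r.Prime) (h2 : r ≠ 2) (hrp : r ≠ p) :
    (Nat.card X).Coprime r := by
  obtain ⟨k, hk⟩ := IsPGroup.iff_card.1 h.q2
  have h1 : p.Coprime r := (Nat.coprime_primes hp.out hr).2 hrp.symm
  rw [h.card_eq, hk]
  exact Nat.Coprime.mul_left (Nat.Coprime.mul_left
    (Nat.Coprime.pow_left k ((Nat.coprime_primes Nat.prime_two hr).2 h2.symm))
    (Nat.Coprime.coprime_dvd_left h.idxQ h1)) (Nat.Coprime.pow_left 2 h1)

end XiS

theorem exists_xiS {T X : Subgroup G} (h : X ∈ Xi T) :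
    ∃ p : ℕ, p.Prime ∧ p ≠ 2 ∧ XiS p X T ((pCore 2 X).map X.subtype) (twoPhiCore X) := by
  obtain ⟨h1, h2, -, ⟨p, hp, hp2, h3⟩, h4⟩ := h
  have := Fact.mk hp
  set π := QuotientGroup.mk' (pCore 2 X) with hπ
  have hπs : Function.Surjective π := QuotientGroup.mk'_surjective _
  have hP : IsPGroup p (X ⧸ pCore 2 X) := by
    rcases h3 with h3 | h3
    exacts [IsPGroup.of_card h3.1, IsPGroup.of_card h3.1]
  have hF := (PG.frattini_le_iff hP).1 le_rfl
  have hidx : (frattini (X ⧸ pCore 2 X)).index = p ^ 2 ∧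
      Nat.card (frattini (X ⧸ pCore 2 X)) ∣ p := by
    have h5 := card_mul_index (frattini (X ⧸ pCore 2 X))
    rcases h3 with h3 | h3
    · have : frattini (X ⧸ pCore 2 X) = ⊥ := by
        refine le_bot_iff.1 ((PG.frattini_le_iff hP).2 ⟨?_, h3.2.2⟩)
        have := h3.2.1
        rw [le_bot_iff, _root_.commutator_def, commutator_eq_bot_iff_le_centralizer]
        exact fun a _ b _ => mul_comm' b a
      rw [this, index_bot, card_bot]
      exact ⟨h3.1, one_dvd _⟩
    · have e : (⊤ : Subgroup (X ⧸ pCore 2 X)) ≃* (X ⧸ pCore 2 X) := topEquiv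
      have h6 := (BG.p3group_extraspecial (S := (⊤ : Subgroup (X ⧸ pCore 2 X)))
        (by rw [card_top, h3.1]) (fun hc => h3.2
          ⟨⟨fun a b => by simpa using congrArg e (mul_comm' (e.symm a) (e.symm b))⟩⟩)).1
      have h7 := h6.2
      rw [← h6.1.2.1] at h7
      have h8 : Nat.card (frattini (X ⧸ pCore 2 X)) = p := by
        rw [← h7]
        exact Nat.dvd_antisymm
          ((card_dvd_of_le (frattini_le_comap_frattini_of_surjective
            (φ := e.symm.toMonoidHom) e.symm.surjective)).trans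
            (card_comap_dvd_of_injective _ _ e.symm.injective))
          ((card_dvd_of_le (frattini_le_comap_frattini_of_surjective
            (φ := e.toMonoidHom) e.surjective)).trans
            (card_comap_dvd_of_injective _ _ e.injective))
      rw [h8, h3.1, pow_succ'] at h5
      rw [h8]
      exact ⟨Nat.eq_of_mul_eq_mul_left hp.pos h5, dvd_rfl⟩
  have hsub : (twoPhiCore X).subgroupOf X = (frattini (X ⧸ pCore 2 X)).comap π :=
    subgroupOf_map_subtype_self _
  have hQ : (pCore 2 X).map X.subtype ≤ twoPhiCore X :=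
    map_mono fun x hx => by
      rw [mem_comap, QuotientGroup.mk'_apply, (QuotientGroup.eq_one_iff x).2 hx]
      exact one_mem _
  have hΦ : twoPhiCore X ≤ X := map_subtype_le _
  have hT : T ≤ normalizer (twoPhiCore X : Set G) := by
    have := Characteristic.comap_quotient_mk (H := pCore 2 X) frattini_characteristic
    exact h2.trans (PG.normalizer_le_normalizer_map_of_characteristic X _)
  refine ⟨p, hp, hp2, h1.ge, h2, isPGroup_map_pCore _, hQ, hΦ, hT, ?_, ?_, ?_, fun x hx => ?_,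
    fun Y hY hn => ?_⟩
  · rw [relIndex, hsub, index_comap_of_surjective _ hπs, hidx.1]
  · have h5 := relIndex_ker ((frattini (X ⧸ pCore 2 X)).comap π) π
    rw [map_comap_eq_self_of_surjective hπs, hπ, QuotientGroup.ker_mk'] at h5
    rw [twoPhiCore, relIndex_map_map_of_injective _ _ X.subtype_injective, h5]
    exact hidx.2
  · conv_lhs => rw [← range_subtype X, MonoidHom.range_eq_map, ← Subgroup.map_commutator]
    refine map_mono (map_le_iff_le_comap.1 ?_)
    rw [Subgroup.map_commutator]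
    exact (commutator_mono le_top le_top).trans hF.1
  · exact ⟨⟨x, hx⟩ ^ p, by rw [SetLike.mem_coe, mem_comap, map_pow]; exact hF.2 _, rfl⟩
  · rcases h4 (Y ⊔ twoPhiCore X) le_sup_right (sup_le hY hΦ) (le_normalizer_sup hn hT) with h5 | h5
    · exact Or.inl (le_sup_left.trans h5.le)
    · right
      have h6 : (Y.subgroupOf X).map π = ⊤ := by
        refine frattini_nongenerating ?_
        rw [← map_comap_eq_self_of_surjective hπs (frattini _), ← Subgroup.map_sup, ← hsub,
          ← subgroupOf_sup hY hΦ, h5, subgroupOf_self, map_top_of_surjective _ hπs]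
      have h7 := congrArg (fun A => (A.comap π).map X.subtype) h6
      simp only [comap_map_eq, comap_top] at h7
      rw [Subgroup.map_sup, subgroupOf_map_subtype, inf_eq_left.2 hY, hπ, QuotientGroup.ker_mk',
        ← MonoidHom.range_eq_map, range_subtype] at h7
      rw [sup_comm, h7]

end CL.QT
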