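/-
The module lemma behind the faithful solvable uniqueness groups.
-/
import Mathlib
import Cfsg.Agent.QT.Y1
import Cfsg.Agent.QT.X1
import Cfsg.Agent.FGS.ThompDih
import Cfsg.Agent.TECH.SecC

set_option autoImplicit false

namespace CL.QY

open Subgroup Cfsg
open scoped commutatorElement

section grp
variable {Γ : Type*} [Group Γ]

theorem mem_zp {y u : Γ} (hy : y ^ 5 = 1) (hu : u ∈ zpowers y) (h1 : u ≠ 1) : y ∈ zpowers u := by
  have := Fact.mk Nat.prime_five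
  by_cases e : y = 1
  · rw [e]; exact one_mem _
  have o := orderOf_eq_prime hy e
  have : Finite (zpowers y) := Nat.finite_of_card_ne_zero (by rw [Nat.card_zpowers, o]; norm_num)
  have k : orderOf u = 5 := orderOf_eq_prime (by
    obtain ⟨i, rfl⟩ := hu
    rw [← zpow_natCast, ← zpow_mul, mul_comm, zpow_mul, zpow_natCast, hy, one_zpow]) h1
  exact (eq_of_le_of_card_ge (zpowers_le.2 hu) (by rw [Nat.card_zpowers, Nat.card_zpowers, o, k])).ge
    (mem_zpowers y)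

theorem mem_of_cop {H : Subgroup Γ} {g : Γ} {a b : ℕ} (c : a.Coprime b) (ha : g ^ a ∈ H)
    (hb : g ^ b ∈ H) : g ∈ H := by
  have e := Nat.gcd_eq_gcd_ab a b
  rw [c, Nat.cast_one] at e
  rw [← zpow_one g, e, zpow_add, zpow_mul, zpow_mul, zpow_natCast, zpow_natCast]
  exact mul_mem (zpow_mem ha _) (zpow_mem hb _)

theorem conj_zp {g y u : Γ} (hu : u ∈ zpowers y) : g * u * g⁻¹ ∈ zpowers (g * y * g⁻¹) := by
  obtain ⟨i, rfl⟩ := hu
  exact ⟨i, by simp only [conj_zpow]⟩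

theorem conj_one {g y : Γ} (h : g * y * g⁻¹ = 1) : y = 1 := by
  rwa [mul_inv_eq_one, mul_eq_left] at h

theorem four {d y : Γ} (hy : y ^ 5 = 1) (h : d * y * d⁻¹ ∈ zpowers y) :
    d ^ 4 * y * (d ^ 4)⁻¹ = y := by
  by_cases e : y = 1
  · simp [e]
  obtain ⟨i, hi⟩ := h
  simp only at hi
  have k : ∀ n : ℕ, d ^ n * y * (d ^ n)⁻¹ = y ^ i ^ n := fun n => by
    induction n with
    | zero => simp
    | succ n ih =>
      rw [pow_succ', mul_inv_rev, mul_assoc d, mul_assoc d, ← mul_assoc _ _ d⁻¹, ih, ← mul_assoc,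
        ← conj_zpow, ← hi, ← zpow_mul, pow_succ']
  have := Fact.mk Nat.prime_five
  have o := orderOf_eq_prime hy e
  have h5 : ¬ (5 : ℤ) ∣ i := fun q => e (conj_one (g := d) (by
    rw [← hi, ← orderOf_dvd_iff_zpow_eq_one, o]; exact q))
  rw [k]
  conv_rhs => rw [← zpow_one y]
  rw [zpow_eq_zpow_iff_modEq, o]
  have : i % 5 = 1 ∨ i % 5 = 2 ∨ i % 5 = 3 ∨ i % 5 = 4 := by omega
  rcases this with q | q | q | q <;> simp [Int.ModEq, pow_succ, Int.mul_emod, q]

theorem swap {g y z : Γ} (hy : y ^ 5 = 1) (hz : z ^ 5 = 1) (h1 : y ≠ 1) (n : z ∉ zpowers y)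
    (a : g * y * g⁻¹ ∈ zpowers y ∨ g * y * g⁻¹ ∈ zpowers z)
    (b : g * z * g⁻¹ ∈ zpowers y ∨ g * z * g⁻¹ ∈ zpowers z) : g ^ 8 * y * (g ^ 8)⁻¹ = y := by
  rw [show 8 = 2 * 4 from rfl, pow_mul]
  refine four hy ?_
  have e : g ^ 2 * y * (g ^ 2)⁻¹ = g * (g * y * g⁻¹) * g⁻¹ := by rw [sq]; group
  rw [e]
  rcases a with a | a
  · exact zpowers_le.2 a (conj_zp a)
  rcases b with b | b
  · exact zpowers_le.2 b (conj_zp a)
  have k := conj_zp (g := g⁻¹) (zpowers_le.2 (mem_zp hz a fun q => h1 (conj_one q)) b)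
  simp only [mul_assoc, inv_mul_cancel_left, inv_inv, inv_mul_cancel, mul_one] at k
  exact absurd k n

end grp

variable {V : Type*} [Group V] [Finite V]

/-- `|[V, y]| ≤ 16` -/
def Sm (h : E2 V) (y : MulAut V) : Prop := Nat.card (cm h y) ≤ 16

omit [Finite V] in
theorem Sm.conj {h : E2 V} {y : MulAut V} (s : Sm h y) (g : MulAut V) : Sm h (g * y * g⁻¹) := by
  rwa [Sm, cm_conj, card_map_of_injective g.injective]

omit [Finite V] in
theorem fx_zp {y u : MulAut V} (hu : u ∈ zpowers y) {v : V} (hv : y v = v) : u v = v :=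
  zpowers_le.2 (show y ∈ MulAction.stabilizer (MulAut V) v from hv) hu

/-- two lines -/
theorem two_lines {h : E2 V} {y z : MulAut V} (hy : y ^ 5 = 1) (hz : z ^ 5 = 1) (c : y * z = z * y)
    (h1 : y ≠ 1) (n : z ∉ zpowers y) (sy : Sm h y) (sz : Sm h z) {a b : MulAut V}
    (ha : a ∈ zpowers y) (hb : b ∈ zpowers z) (a1 : a ≠ 1) (b1 : b ≠ 1) : ¬ Sm h (a * b) := by
  intro s
  have := Fact.mk Nat.prime_five
  have o5 : Odd 5 := by decide
  have z1 : z ≠ 1 := fun e => n (e ▸ one_mem _)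
  have fy := cm_inf_fx h o5 hy
  have fz := cm_inf_fx h o5 hz
  have yy : Iv y (cm h y) := iv_cm h rfl
  have zz : Iv z (cm h z) := iv_cm h rfl
  have yz : Iv y (cm h z) := iv_cm h c
  have zy : Iv z (cm h y) := iv_cm h c.symm
  have cy := card_16 h hy yy fy (cm_ne_bot h h1) sy
  have cz := card_16 h hz zz fz (cm_ne_bot h z1) sz
  have d : cm h y ⊓ cm h z = ⊥ := by
    by_contra d
    have e := card_16 h hy (yy.inf yz) (eq_bot_iff.2 fun v hv => fy.le ⟨hv.1.1, hv.2⟩) d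
      (cy ▸ card_le_of_le inf_le_left)
    have e1 : cm h y ⊓ cm h z = cm h y := eq_of_le_of_card_ge inf_le_left (by omega)
    have e2 : cm h y ⊓ cm h z = cm h z := eq_of_le_of_card_ge inf_le_right (by omega)
    have e3 : cm h z = cm h y := e2.symm.trans e1
    set P := closure ({y, z} : Set (MulAut V)) with hP
    have q : ∀ u ∈ P, u ^ 5 = 1 ∧ y * u = u * y ∧ z * u = u * z ∧ ∀ v, v * u v ∈ cm h y := by
      intro u hu
      induction hu using closure_induction with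
      | mem x hx =>
        rcases hx with rfl | rfl
        · exact ⟨hy, rfl, c.symm, fun v => ⟨v, rfl⟩⟩
        · exact ⟨hz, c, rfl, fun v => e3 ▸ ⟨v, rfl⟩⟩
      | one => exact ⟨one_pow _, by simp, by simp, fun v => by rw [MulAut.one_apply, h]; exact one_mem _⟩
      | mul x w hx hw i j =>
        have k : Commute x w := by
          refine closure_induction (p := fun x _ => Commute x w) ?_ (Commute.one_left _)
            (fun _ _ _ _ => Commute.mul_left) (fun _ _ => Commute.inv_left) hx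
          rintro _ (rfl | rfl)
          exacts [j.2.1, j.2.2.1]
        refine ⟨by rw [k.mul_pow, i.1, j.1, one_mul], Commute.mul_right i.2.1 j.2.1,
          Commute.mul_right i.2.2.1 j.2.2.1, fun v => ?_⟩
        have := mul_mem (j.2.2.2 v) (i.2.2.2 (w v))
        rwa [mul_assoc, ← mul_assoc (w v), h, one_mul] at this
      | inv x hx i =>
        refine ⟨by rw [inv_pow, i.1, inv_one], Commute.inv_right i.2.1, Commute.inv_right i.2.2.1,
          fun v => ?_⟩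
        have := i.2.2.2 (x⁻¹ v)
        rwa [MulAut.apply_inv_self, h.cm] at this
    have yP : y ∈ P := subset_closure (Or.inl rfl)
    have pP : IsPGroup 5 P := fun u => ⟨1, Subtype.ext (by rw [pow_one]; exact (q u u.2).1)⟩
    obtain ⟨S, S1, S2, S3, -, S5⟩ := key16 h pP yP hy (fun u hu => (q u hu).2.1)
      (fun u hu => iv_cm h (q u hu).2.1.symm) fy cy
    have S6 : S = ⊥ := (eq_bot_iff_forall _).2 fun s hs => MulEquiv.ext fun v =>
      eq_of_dl_fixed h o5 (q s (S1 hs)).1 (S5 s hs _ ((q s (S1 hs)).2.2.2 v))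
    rw [S6, relIndex_bot_left] at S2
    refine n ((eq_of_le_of_card_ge (zpowers_le.2 yP) ?_).ge (subset_closure (Or.inr rfl)))
    rw [S2, Nat.card_zpowers, orderOf_eq_prime hy h1]
  have t1 : ∀ w ∈ cm h y, z w = w := fun w hw => by
    have : w * z w ∈ cm h y ⊓ cm h z := ⟨mul_mem hw (zy w hw), ⟨w, rfl⟩⟩
    rwa [d, mem_bot, mul_eq_one_iff_eq_inv', h.inv] at this
  have t2 : ∀ w ∈ cm h z, y w = w := fun w hw => by
    have : w * y w ∈ cm h y ⊓ cm h z := ⟨⟨w, rfl⟩, mul_mem hw (yz w hw)⟩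
    rwa [d, mem_bot, mul_eq_one_iff_eq_inv', h.inv] at this
  have ia : ∀ {y a : MulAut V}, a ∈ zpowers y → Iv a (cm h y) := fun {y a} ha =>
    iv_cm h (by obtain ⟨i, rfl⟩ := ha; exact (Commute.refl y).zpow_left i)
  have : (cm h y).Normal := ⟨fun a ha g => by rwa [h.cm g, mul_inv_cancel_right]⟩
  have f : (cm h y ⊔ cm h z) ⊓ fx (a * b) = ⊥ := by
    refine eq_bot_iff.2 fun v hv => ?_
    obtain ⟨w, hw, w', hw', rfl⟩ := mem_sup_of_normal_left.1 hv.1
    have e : a (b (w * w')) = w * w' := hv.2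
    rw [map_mul, fx_zp hb (t1 w hw), map_mul, fx_zp ha (t2 _ (ia hb w' hw'))] at e
    have e' : w * a w = w' * b w' := by
      rw [← mul_left_inj (b w'), mul_assoc, e, ← mul_assoc, h, one_mul, mul_assoc, h, mul_one]
    have m : w * a w ∈ cm h y ⊓ cm h z :=
      ⟨mul_mem hw (ia ha w hw), e' ▸ (cm h z).mul_mem hw' (ia hb w' hw')⟩
    rw [d, mem_bot] at m
    rw [m, eq_comm] at e'
    rw [mul_eq_one_iff_eq_inv', h.inv] at m e'
    rw [mem_bot.1 (fy.le ⟨hw, fx_zp (mem_zp hy ha a1) m⟩),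
      mem_bot.1 (fz.le ⟨hw', fx_zp (mem_zp hz hb b1) e'⟩), one_mul]
    exact one_mem _
  have k1 := card_mul_le le_sup_left le_sup_right d
  have k2 := card_dl h (a * b) (cm h y ⊔ cm h z)
  rw [f, card_bot, mul_one] at k2
  have k3 := card_le_of_le (map_le_range (dl h (a * b)) (cm h y ⊔ cm h z))
  rw [Sm, cm] at s
  rw [cy, cz] at k1
  omega

/-- common fixed points -/
def FX (A : Subgroup (MulAut V)) : Subgroup V := ⨅ a ∈ A, fx a

omit [Finite V] in
theorem mem_FX {A : Subgroup (MulAut V)} {v : V} : v ∈ FX A ↔ ∀ a ∈ A, a v = v := by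
  simp [FX, mem_iInf, mem_fx]

theorem five_of {p c k : ℕ} (hp : p.Prime) (h5 : 5 ≤ p) (hc : c ^ 2 = 2 ^ k) (h1 : c ^ 2 ≠ 1)
    (m : c ^ 2 ≡ 1 [MOD p]) : 4 ≤ c ∧ (c ≤ 4 → p = 5) := by
  have c0 : c ≠ 0 := fun e => by rw [e] at hc; exact absurd hc.symm (by positivity)
  have k : ∀ n, 1 < n → n ≡ 1 [MOD p] → p ≤ n - 1 ∧ p ∣ n - 1 := fun n a b =>
    have := (Nat.modEq_iff_dvd' a.le).1 b.symm
    ⟨Nat.le_of_dvd (by omega) this, this⟩
  have c3 : c ≠ 3 := fun e => by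
    rw [e] at hc
    have : 3 ∣ 2 ^ _ := hc ▸ dvd_pow_self 3 two_ne_zero
    exact absurd (Nat.prime_three.dvd_of_dvd_pow this) (by norm_num)
  have c4 : 4 ≤ c := by
    by_contra! q
    interval_cases c
    · exact c0 rfl
    · exact h1 rfl
    · have := (k 4 (by norm_num) m).1; omega
    · exact c3 rfl
  refine ⟨c4, fun q => ?_⟩
  obtain rfl : c = 4 := le_antisymm q c4
  obtain ⟨a, b⟩ := k 16 (by norm_num) m
  interval_cases p <;> first | rfl | (exfalso; revert b hp; norm_num)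

theorem stepA (h : E2 V) {p : ℕ} [hp : Fact p.Prime] (h5 : 5 ≤ p) {A M : Subgroup (MulAut V)}
    (hA : IsElementaryAbelian 2 A) (hM : IsPGroup p M) (cM : IsMulCommutative M) {k : ℕ} (k1 : 1 ≤ k)
    (k2 : k ≤ 2) {x a : Fin k → MulAut V} (F : TDih.Fam A A M x a)
    (hi : (FX A).index ≤ (2 ^ k) ^ 2) : p = 5 ∧ ∃ y ∈ M, y ≠ 1 ∧ y ^ 5 = 1 ∧ Sm h y := by
  have op : Odd p := hp.out.odd_of_ne_two (by omega)
  have xp : ∀ i, x i ^ p = 1 := fun i => by
    obtain ⟨n, hn⟩ := IsPGroup.iff_orderOf.1 hM ⟨x i, F.mem i⟩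
    rw [← orderOf_coe] at hn
    have := (Nat.prime_dvd_prime_iff_eq (F.prime i) hp.out).1
      ((F.prime i).dvd_of_dvd_pow (hn ▸ dvd_rfl : orderOf (x i) ∣ p ^ n))
    rw [← this, pow_orderOf_eq_one]
  have aa : ∀ i, a i * a i = 1 := fun i => by rw [← sq]; exact hA.2 _ (F.amem i)
  have ac : ∀ i j, a i * a j = a j * a i := fun i j =>
    congrArg Subtype.val (hA.1.1.1 (⟨a i, F.amem i⟩ : A) ⟨a j, F.amem j⟩)
  have gi : ∀ W : Subgroup V, Nat.card W ≤ (2 ^ k) ^ 2 * Nat.card (W ⊓ FX A : Subgroup V) := fun W => by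
    have e := CL.Comp.card_mul_relIndex' (inf_le_left : W ⊓ FX A ≤ W)
    rw [inf_relIndex_left] at e
    rw [← e, mul_comm]
    refine Nat.mul_le_mul_right _ (le_trans ?_ hi)
    rw [← relIndex_top_right]
    exact relIndex_le_of_le_right le_top (by rw [relIndex_top_right]; exact index_ne_zero_of_finite)
  have ax : ∀ i j, Iv (a i) (cm h (x j)) := fun i j => by
    by_cases e : i = j
    · subst e; exact iv_cm_inv h (F.inv i)
    · exact iv_cm h (F.comm i j e)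
  have xx : ∀ i j, Iv (x i) (cm h (x j)) := fun i j => iv_cm h (F.x_comm cM i j)
  have ff := fun i => cm_inf_fx h op (xp i)
  have s := fun i => sq_eq h (aa i) (F.inv i) (ax i i) (xx i i) (ff i)
  have t : ∀ i, 4 ≤ Nat.card (cm h (x i) ⊓ fx (a i) : Subgroup V) ∧
      (Nat.card (cm h (x i) ⊓ fx (a i) : Subgroup V) ≤ 4 → p = 5) := fun i => by
    obtain ⟨n, hn⟩ := card_pow h (cm h (x i))
    refine five_of hp.out h5 ((s i).symm.trans hn) ?_ (s i ▸ modeq (xp i) (xx i i) (ff i))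
    rw [← s i, Ne, card_eq_one]
    exact cm_ne_bot h (F.ne_one i)
  suffices ∃ i, Nat.card (cm h (x i) ⊓ fx (a i) : Subgroup V) ≤ 4 by
    obtain ⟨i, q⟩ := this
    have e := (t i).2 q
    exact ⟨e, x i, F.mem i, F.ne_one i, e ▸ xp i, (s i).le.trans (Nat.pow_le_pow_left q 2)⟩
  have fa : ∀ i, FX A ≤ fx (a i) := fun i v hv => mem_FX.1 hv _ (F.amem i)
  interval_cases k
  · refine ⟨0, ?_⟩
    have e := (gi (cm h (x 0))).trans (Nat.mul_le_mul_left _ (card_le_of_le (inf_le_inf_left _ (fa 0))))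
    have := (t 0).1
    rw [s 0] at e
    nlinarith
  have n01 : (0 : Fin 2) ≠ 1 := by decide
  have d : cm h (x 0) ⊓ cm h (x 1) = ⊥ := by
    set U := cm h (x 0) ⊓ cm h (x 1)
    have f1 : U ⊓ fx (a 0) ⊓ fx (x 1) = ⊥ := eq_bot_iff.2 fun v hv => (ff 1).le ⟨hv.1.1.2, hv.2⟩
    have i1 : Iv (x 1) (U ⊓ fx (a 0)) := ((xx 1 0).inf (xx 1 1)).inf (iv_fx (F.comm 0 1 n01).symm)
    have e1 := sq_eq h (aa 0) (F.inv 0) ((ax 0 0).inf (ax 0 1)) ((xx 0 0).inf (xx 0 1))
      (eq_bot_iff.2 fun v hv => (ff 0).le ⟨hv.1.1, hv.2⟩)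
    have e2 := sq_eq h (aa 1) (F.inv 1) (((ax 1 0).inf (ax 1 1)).inf (iv_fx (ac 1 0))) i1 f1
    have e3 := (gi U).trans (Nat.mul_le_mul_left _ (card_le_of_le
      (show U ⊓ FX A ≤ U ⊓ fx (a 0) ⊓ fx (a 1) from fun v hv => ⟨⟨hv.1, fa 0 hv.2⟩, fa 1 hv.2⟩)))
    obtain ⟨n, hn⟩ := card_pow h (U ⊓ fx (a 0))
    by_contra q
    have e4 := (five_of hp.out h5 (e2.symm.trans hn) (fun q' => q (by
      rw [← card_eq_one, e1, e2, q', one_pow])) (e2 ▸ modeq (xp 1) i1 f1)).1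
    rw [e1, e2] at e3
    generalize Nat.card (U ⊓ fx (a 0) ⊓ fx (a 1) : Subgroup V) = c at e3 e4
    nlinarith [Nat.pow_le_pow_left e4 2, Nat.pow_le_pow_left e4 3]
  have : (cm h (x 0)).Normal := ⟨fun a ha g => by rwa [h.cm g, mul_inv_cancel_right]⟩
  have k1 := card_mul_le le_sup_left le_sup_right d
  have k2 := gi (cm h (x 0) ⊔ cm h (x 1))
  have k3 : Nat.card ((cm h (x 0) ⊔ cm h (x 1)) ⊓ FX A : Subgroup V) ≤
      Nat.card (cm h (x 0) ⊓ fx (a 0) : Subgroup V) * Nat.card (cm h (x 1) ⊓ fx (a 1) : Subgroup V) := by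
    refine card_le_mul fun v hv => ?_
    obtain ⟨w, hw, w', hw', rfl⟩ := mem_sup_of_normal_left.1 hv.1
    have q : ∀ i, a i w = w ∧ a i w' = w' := fun i => by
      have e : a i (w * w') = w * w' := fa i hv.2
      rw [map_mul] at e
      have e' : w * a i w = w' * a i w' := by
        rw [← mul_left_inj (a i w'), mul_assoc, e, ← mul_assoc, h, one_mul, mul_assoc, h, mul_one]
      have m : w * a i w ∈ cm h (x 0) ⊓ cm h (x 1) :=
        ⟨mul_mem hw (ax i 0 w hw), e' ▸ (cm h (x 1)).mul_mem hw' (ax i 1 w' hw')⟩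
      rw [d, mem_bot] at m
      rw [m, eq_comm] at e'
      rw [mul_eq_one_iff_eq_inv', h.inv] at m e'
      exact ⟨m, e'⟩
    exact ⟨w, ⟨hw, (q 0).1⟩, w', ⟨hw', (q 1).2⟩, rfl⟩
  rw [s 0, s 1] at k1
  have a0 := (t 0).1
  have a1 := (t 1).1
  refine ⟨0, ?_⟩
  generalize Nat.card (cm h (x 0) ⊓ fx (a 0) : Subgroup V) = c at *
  generalize Nat.card (cm h (x 1) ⊓ fx (a 1) : Subgroup V) = d at *
  have k4 : c * d * (c * d) ≤ 16 * (c * d) := by nlinarith
  have k5 : c * d ≤ 16 := Nat.le_of_mul_le_mul_right k4 (by positivity)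
  nlinarith

/-- the module lemma -/
theorem main (h : E2 V) {p : ℕ} [hp : Fact p.Prime] (h5 : 5 ≤ p) {X T Φ A : Subgroup (MulAut V)}
    (x : QT.XiS p X T ⊥ Φ) (hΦ : Φ ≤ ⁅X, X⁆) (hA : IsElementaryAbelian 2 A) (A1 : A ≠ ⊥)
    (AX : A ≤ normalizer (X : Set (MulAut V))) (hf : A ⊓ centralizer (X : Set (MulAut V)) = ⊥)
    (hi : (FX A).index ≤ Nat.card A ^ 2) :
    p = 5 ∧ ∀ g ∈ normalizer (X : Set (MulAut V)), ∀ u ∈ X, g ^ 8 * u * (g ^ 8)⁻¹ = u := by
  have cΦ : Nat.card Φ ∣ p := by simpa using x.idxQ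
  have cX : Nat.card X = Nat.card Φ * p ^ 2 := by simpa using x.card_eq
  have dX : Nat.card X ∣ p ^ 3 := by rw [cX, pow_succ' p 2]; exact Nat.mul_dvd_mul_right cΦ _
  have pX : IsPGroup p X := IsPGroup.of_card ((Nat.dvd_prime_pow hp.out).1 dX).choose_spec.2
  have oX := BG.odd_card_of_isPGroup (by omega) pX
  have ab : X ≤ centralizer (X : Set (MulAut V)) → Φ = ⊥ := fun e =>
    le_bot_iff.1 (hΦ.trans (commutator_eq_bot_iff_le_centralizer.2 e).le)
  obtain ⟨k, hk⟩ := IsPGroup.iff_card.1 (show IsPGroup 2 A from fun a =>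
    ⟨1, Subtype.ext (by rw [pow_one]; exact hA.2 a a.2)⟩)
  obtain ⟨M, MX, cM, xs, as, F⟩ := TDih.exists_fam_of_nilpotent hA oX pX.isNilpotent AX hf hk
  have oM : Odd (Nat.card M) := oX.of_dvd_nat (card_dvd_of_le MX)
  have k1 : 1 ≤ k := Nat.one_le_iff_ne_zero.2 fun e => A1 (by rw [← card_eq_one, hk, e, pow_zero])
  have k2 : k ≤ 2 := by
    by_contra! q
    have e := F.card_iSup oM cM
    have e1 : ∀ i, Nat.card (zpowers (xs i)) = p := fun i => by
      obtain ⟨n, hn⟩ := IsPGroup.iff_orderOf.1 pX ⟨xs i, MX (F.mem i)⟩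
      rw [← orderOf_coe] at hn
      rw [Nat.card_zpowers]
      exact (Nat.prime_dvd_prime_iff_eq (F.prime i) hp.out).1
        ((F.prime i).dvd_of_dvd_pow (hn ▸ dvd_rfl : orderOf (xs i) ∣ p ^ n))
    simp only [e1, Finset.prod_const, Finset.card_univ, Fintype.card_fin] at e
    have e2 := card_le_of_le (iSup_le fun i => zpowers_le.2 (F.mem i) : ⨆ i, zpowers (xs i) ≤ M)
    have e3 : p ^ 3 ≤ p ^ k := Nat.pow_le_pow_right hp.out.pos q
    have e4 : M = X := eq_of_le_of_card_ge MX ((Nat.le_of_dvd (by positivity) dX).trans (by omega))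
    rw [ab (e4 ▸ fun a ha b hb => congrArg Subtype.val (cM.1.1 (⟨b, hb⟩ : M) ⟨a, ha⟩)), card_bot,
      one_mul] at cX
    have := Nat.pow_lt_pow_right hp.out.one_lt (show 2 < 3 by norm_num)
    rw [e4] at e2
    omega
  obtain ⟨rfl, y, yM, y1, y5, sy⟩ := stepA h h5 hA (pX.to_le MX) cM k1 k2 F (hk ▸ hi)
  have yX := MX yM
  refine ⟨rfl, fun g hg => ?_⟩
  have o5 : Odd 5 := by decide
  have Φ5 : ∀ z ∈ Φ, z ^ 5 = 1 := fun z hz =>
    orderOf_dvd_iff_pow_eq_one.1 ((orderOf_dvd_natCard Φ hz).trans cΦ)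
  have ΦZ : Φ ≤ centralizer (X : Set (MulAut V)) := by
    by_cases e : Φ = ⊥
    · rw [e]; exact bot_le
    have c5 : Nat.card Φ = 5 := ((Nat.dvd_prime hp.out).1 cΦ).resolve_left (mt card_eq_one.1 e)
    intro z hz u hu
    by_cases z1 : z = 1
    · simp [z1]
    have e1 : zpowers z = Φ := eq_of_le_of_card_ge (zpowers_le.2 hz)
      (by rw [c5, Nat.card_zpowers, orderOf_eq_prime (Φ5 z hz) z1])
    have e2 := four (d := u) (Φ5 z hz) (e1 ▸ MSS.conj_mem_of_normalizes x.nΦ hu hz)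
    rw [mul_inv_eq_iff_eq_mul] at e2
    obtain ⟨n, hn⟩ := pX ⟨u, hu⟩
    have e3 : u ^ 5 ^ n = 1 := congrArg Subtype.val hn
    refine mem_centralizer_singleton_iff.1 (mem_of_cop (a := 4) (b := 5 ^ n)
      (Nat.Coprime.pow_right _ (by norm_num)) (mem_centralizer_singleton_iff.2 e2) ?_)
    rw [e3]
    exact one_mem _
  have Φ1 : Φ = ⊥ := by
    by_contra e
    by_cases yΦ : y ∈ Φ
    · have c : ∀ u ∈ X, y * u = u * y := fun u hu => (ΦZ yΦ u hu).symm
      obtain ⟨S, -, -, S3, S4, -⟩ := key16 h pX yX y5 c (fun u hu => iv_cm h (c u hu).symm)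
        (cm_inf_fx h o5 y5) (card_16 h y5 (iv_cm h rfl) (cm_inf_fx h o5 y5) (cm_ne_bot h y1) sy)
      exact S3 (S4 (hΦ yΦ))
    obtain ⟨u, hu, n⟩ : ∃ u ∈ X, u * y * u⁻¹ * y⁻¹ ≠ 1 := by
      by_contra! q
      rcases x.irr (X ⊓ centralizer (X : Set (MulAut V))) inf_le_left
        (MSS.le_normalizer_inf x.tn (MSS.le_normalizer_centralizer x.tn)) with r | r
      · exact yΦ (r ⟨yX, fun u hu => by
          have := q u hu
          rwa [mul_inv_eq_one, mul_inv_eq_iff_eq_mul] at this⟩)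
      · rw [bot_sup_eq] at r
        exact e (ab (r.ge.trans inf_le_right))
    have zΦ : u * y * u⁻¹ * y⁻¹ ∈ Φ := x.comm (commutator_mem_commutator hu yX)
    have e1 : u * y * u⁻¹ = u * y * u⁻¹ * y⁻¹ * y := by group
    generalize u * y * u⁻¹ * y⁻¹ = z at n zΦ e1
    have zy : Commute y z := ΦZ zΦ y yX
    have zu : Commute u z := ΦZ zΦ u hu
    have nz : ∀ {w}, w ∈ Φ → w ≠ 1 → w * y ∉ zpowers y := fun {w} hw w1 q =>
      yΦ (zpowers_le.2 hw (mem_zp y5 ((zpowers y).mul_mem_cancel_right (mem_zpowers y) |>.1 q) w1))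
    refine two_lines y5 (z := z * y) (by rw [zy.symm.mul_pow, Φ5 z zΦ, y5, one_mul])
      (zy.mul_right (Commute.refl y)) y1 (nz zΦ n) sy (e1 ▸ sy.conj u) (a := y⁻¹) (b := z * y * (z * y))
      (inv_mem (mem_zpowers y)) (mul_mem (mem_zpowers _) (mem_zpowers _)) (inv_ne_one.2 y1)
      (fun q => ?_) ?_
    · have q5 : (z * y) ^ 5 = 1 := by rw [zy.symm.mul_pow, Φ5 z zΦ, y5, one_mul]
      rw [show 5 = 2 * 2 + 1 from rfl, pow_succ, pow_mul, sq (z * y), q, one_pow, one_mul] at q5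
      exact nz zΦ n (q5 ▸ one_mem _)
    · have := (sy.conj u).conj u
      rw [e1, ← mul_assoc, zu.eq, mul_assoc z, mul_assoc z, e1] at this
      convert this using 1
      rw [mul_assoc z y, ← mul_assoc y, zy.eq, ← mul_assoc y⁻¹, zy.inv_left.eq, mul_assoc z y,
        mul_assoc z, ← mul_assoc y⁻¹, zy.inv_left.eq, mul_assoc z, inv_mul_cancel_left]
  subst Φ1
  obtain ⟨t, ht, n⟩ : ∃ t ∈ T, t * y * t⁻¹ ∉ zpowers y := by
    by_contra! q
    refine y1 (mem_bot.1 (x.mem_of_normalizes yX fun t ht => ?_))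
    rw [sup_bot_eq]
    exact mem_normalizer_fintype fun u hu => zpowers_le.2 (q t ht) (conj_zp hu)
  have zX : t * y * t⁻¹ ∈ X := MSS.conj_mem_of_normalizes x.tn ht yX
  have sz := sy.conj t
  have z5 : (t * y * t⁻¹) ^ 5 = 1 := by rw [conj_pow, y5, mul_one, mul_inv_cancel]
  generalize t * y * t⁻¹ = z at n zX sz z5
  have z1 : z ≠ 1 := fun e => n (e ▸ one_mem _)
  have cX' : ∀ a ∈ X, ∀ b ∈ X, a * b = b * a := fun a ha b hb =>
    commutatorElement_eq_one_iff_mul_comm.1 (mem_bot.1 (x.comm (commutator_mem_commutator ha hb)))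
  have gen : ∀ u ∈ X, ∃ a ∈ zpowers y, ∃ b ∈ zpowers z, a * b = u := by
    have d : zpowers y ⊓ zpowers z = ⊥ := eq_bot_iff.2 fun w hw => by
      by_contra q
      exact n (zpowers_le.2 hw.1 (mem_zp z5 hw.2 q))
    have e := card_mul_le le_sup_left le_sup_right d
    rw [Nat.card_zpowers, Nat.card_zpowers, orderOf_eq_prime y5 y1, orderOf_eq_prime z5 z1] at e
    rw [card_bot] at cX
    have e' : zpowers y ⊔ zpowers z = X :=
      eq_of_le_of_card_ge (sup_le (zpowers_le.2 yX) (zpowers_le.2 zX)) (by omega)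
    intro u hu
    refine (Comp.mem_sup_of_le_normalizer (MSS.le_normalizer_of_le_centralizer ?_)).1 (e'.ge hu)
    exact fun a ha b hb => cX' b (zpowers_le.2 zX hb) a (zpowers_le.2 yX ha)
  have two : ∀ u ∈ X, Sm h u → u ∈ zpowers y ∨ u ∈ zpowers z := fun u hu s => by
    obtain ⟨a, ha, b, hb, rfl⟩ := gen u hu
    by_cases a1 : a = 1
    · exact Or.inr (by rwa [a1, one_mul])
    by_cases b1 : b = 1
    · exact Or.inl (by rwa [b1, mul_one])
    exact absurd s (two_lines y5 z5 (cX' y yX z zX) y1 n sy sz ha hb a1 b1)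
  have a := two _ (MSS.conj_mem_of_normalizes le_rfl hg yX) (sy.conj g)
  have b := two _ (MSS.conj_mem_of_normalizes le_rfl hg zX) (sz.conj g)
  have e1 := swap y5 z5 y1 n a b
  have e2 := swap z5 y5 z1 (fun q => n (mem_zp z5 q y1)) b.symm a.symm
  intro u hu
  obtain ⟨_, ⟨i, rfl⟩, _, ⟨j, rfl⟩, rfl⟩ := gen u hu
  simp only
  rw [← conj_mul, ← conj_zpow, ← conj_zpow, e1, e2]

end CL.QY
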